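import Groth.Agent.SSMod.K122.Core
import Groth.Agent.StrictSS.K866.MPBack
import Groth.Agent.SSMod.K971.Basic

/-!
# The semistable modification of an affine curve over a valuation ring
-/

set_option autoImplicit false
universe u
open CategoryTheory CategoryTheory.Limits AlgebraicGeometry K122.Plan2

namespace K122.Assemble

theorem baseChangeOver_self {D C S T : Scheme.{u}} (i : D ⟶ C) (φ : C ⟶ S) (s : T ⟶ S) :
    IsPullback (pullback.fst (i ≫ φ) s) (CInt.baseChangeOver i φ s) i (pullback.fst φ s) :=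
  K971.SSRestrict.isPullback_baseChangeOver i φ s

/-- The generic fibre over the fraction field. -/
theorem semistable_generic {V : Type u} [CommRing V] [IsDomain V] {C D : Scheme.{u}}
    {φ : C ⟶ Spec (CommRingCat.of V)} {i : D ⟶ C}
    (h : SSMod.IsSemistable (pullback.snd φ ((Spec (CommRingCat.of V)).fromSpecStalk (genericPoint (Spec (CommRingCat.of V)))))
      (CInt.baseChangeOver i φ ((Spec (CommRingCat.of V)).fromSpecStalk (genericPoint (Spec (CommRingCat.of V)))))) :
    SSMod.IsSemistable (pullback.snd φ (iK V)) (CInt.baseChangeOver i φ (iK V)) := by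
  obtain ⟨e, he⟩ := Gen.exists_gen V
  set s := (Spec (CommRingCat.of V)).fromSpecStalk (genericPoint (Spec (CommRingCat.of V))) with hs
  have he' : e.inv ≫ s = iK V := by rw [← he, Iso.inv_hom_id_assoc]
  let p : pullback φ (iK V) ⟶ pullback φ s := pullback.lift (pullback.fst _ _) (pullback.snd _ _ ≫ e.inv)
    (by rw [pullback.condition, Category.assoc, he'])
  have hp1 : p ≫ pullback.fst φ s = pullback.fst φ (iK V) := pullback.lift_fst _ _ _
  have hp2 : p ≫ pullback.snd φ s = pullback.snd φ (iK V) ≫ e.inv := pullback.lift_snd _ _ _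
  have sq : IsPullback p (pullback.snd φ (iK V)) (pullback.snd φ s) e.inv := by
    refine IsPullback.of_right (h₁₂ := pullback.fst φ s) (h₂₂ := s) (v₁₃ := φ) ?_ hp2
      (IsPullback.of_hasPullback φ s)
    rw [hp1, he']
    exact IsPullback.of_hasPullback φ (iK V)
  let pD : pullback (i ≫ φ) (iK V) ⟶ pullback (i ≫ φ) s :=
    pullback.lift (pullback.fst _ _) (pullback.snd _ _ ≫ e.inv)
      (by rw [pullback.condition, Category.assoc, he'])
  have hpD1 : pD ≫ pullback.fst (i ≫ φ) s = pullback.fst (i ≫ φ) (iK V) := pullback.lift_fst _ _ _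
  have sqi : IsPullback pD (CInt.baseChangeOver i φ (iK V)) (CInt.baseChangeOver i φ s) p := by
    refine IsPullback.of_right (h₁₂ := pullback.fst (i ≫ φ) s) (h₂₂ := pullback.fst φ s) (v₁₃ := i) ?_ ?_
      (baseChangeOver_self i φ s)
    · rw [hpD1, hp1]
      exact baseChangeOver_self i φ (iK V)
    · apply pullback.hom_ext
      · rw [Category.assoc, Category.assoc, hp1, K971.SSRestrict.baseChangeOver_fst,
          K971.SSRestrict.baseChangeOver_fst, reassoc_of% hpD1]
      · rw [Category.assoc, Category.assoc, hp2, K971.SSRestrict.baseChangeOver_snd,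
          reassoc_of% (K971.SSRestrict.baseChangeOver_snd i φ (iK V))]
        exact pullback.lift_snd _ _ _
  exact K971.SSBaseChange.isSemistable_of_isPullback h sq sqi

/-- Isomorphisms over the fraction field. -/
theorem isEtaIso_of_K {V : Type u} [CommRing V] [IsDomain V] {C C' : Scheme.{u}} {φ : C ⟶ Spec (CommRingCat.of V)}
    {g : C' ⟶ C} {P : Scheme.{u}} {a : P ⟶ C'} {b : P ⟶ pullback φ (iK V)}
    (sq : IsPullback a b g (pullback.fst φ (iK V))) [IsIso b] : SSMod.IsEtaIso φ g := by
  obtain ⟨e, he⟩ := Gen.exists_gen V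
  refine K971.SSBasic.isEtaIso_of_forall ?_
  intro T Q p q t sqT c hc
  let m : T ⟶ pullback φ (iK V) := pullback.lift t (c ≫ e.hom) (by rw [hc, Category.assoc, he])
  have hm : m ≫ pullback.fst φ (iK V) = t := pullback.lift_fst _ _ _
  rw [← hm] at sqT
  let n : Q ⟶ P := sq.lift p (q ≫ m) (by rw [sqT.w, Category.assoc])
  have sqn : IsPullback n q b m := by
    refine IsPullback.of_right (h₁₂ := a) (h₂₂ := pullback.fst φ (iK V)) (v₁₃ := g) ?_ ?_ sq
    · rw [show n ≫ a = p from sq.lift_fst _ _ _]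
      exact sqT
    · exact sq.lift_snd _ _ _
  exact sqn.isIso_snd_of_isIso

section EtalePts

variable {K : Type u} [Field K] [IsAlgClosed K] {D : Scheme.{u}} (t : D ⟶ Spec (CommRingCat.of K)) [Etale t]

include t in
theorem discrete_of_etale : DiscreteTopology D := by
  have h0 := K866.MPBack.locallyQuasiFinite_of_etale t
  have h1 := t.isDiscrete_preimage (s := Set.univ) (by
    have : DiscreteTopology (Spec (CommRingCat.of K)) := inferInstance
    exact isDiscrete_univ_iff.mpr this)
  rw [Set.preimage_univ] at h1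
  exact isDiscrete_univ_iff.mp h1

theorem exists_point (x : D) : ∃ δ : Spec (CommRingCat.of K) ⟶ D, δ ≫ t = 𝟙 _ ∧ ∀ y, δ.base y = x := by
  have := discrete_of_etale t
  exact ⟨pointOfClosedPoint t x (isClosed_discrete _), pointOfClosedPoint_comp t x _,
    fun y => pointOfClosedPoint_apply t x _ y⟩

theorem finite_points [QuasiCompact t] : {δ : Spec (CommRingCat.of K) ⟶ D | δ ≫ t = 𝟙 _}.Finite := by
  have h1 := discrete_of_etale t
  have h2 : CompactSpace D := QuasiCompact.compactSpace_of_compactSpace t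
  have h3 : Finite D := finite_of_compact_of_discrete
  refine Set.Finite.of_injOn (f := fun δ : Spec (CommRingCat.of K) ⟶ D => δ (IsLocalRing.closedPoint K))
    (t := Set.univ) (fun _ _ => Set.mem_univ _) ?_ Set.finite_univ
  intro δ hδ δ' hδ' h
  exact ext_of_apply_closedPoint_eq t hδ hδ' h

end EtalePts

theorem isPullback_of_mono {A U S : Scheme.{u}} (v : A ⟶ S) (a : U ⟶ S) [Mono a] (w : A ⟶ U) (h : w ≫ a = v) :
    IsPullback (𝟙 A) w v a :=
  IsPullback.of_isLimit' ⟨by rw [Category.id_comp, h]⟩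
    (PullbackCone.IsLimit.mk _ (fun s => s.fst) (fun s => Category.comp_id _)
      (fun s => by rw [← cancel_mono a, Category.assoc, h, s.condition])
      (fun s m hm _ => by rw [← hm]; exact (Category.comp_id m).symm))

theorem locSS (hC : Compact.{u}) (hN : NormalModel.{u}) (hSec : Sections.{u}) (hMod : StableModel.{u}) :
    K122.Plan.LocSS.{u} := by
  intro V _ _ _ _ _ C D _ φ i hMP _ hDr hη
  obtain ⟨h1, h2, h3, h4, h5, h6, h7, h8, h9⟩ := hMP
  obtain ⟨hss1, hss2, hss3, hss4⟩ := semistable_generic hη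
  let iD : pullback (i ≫ φ) (iK V) ⟶ pullback φ (iK V) := CInt.baseChangeOver i φ (iK V)
  have sqD : IsPullback (pullback.fst (i ≫ φ) (iK V)) iD i (pullback.fst φ (iK V)) :=
    baseChangeOver_self i φ (iK V)
  have hiD : iD ≫ pullback.snd φ (iK V) = pullback.snd (i ≫ φ) (iK V) :=
    K971.SSRestrict.baseChangeOver_snd i φ (iK V)
  have hiDc : IsClosedImmersion iD := MorphismProperty.of_isPullback (P := @IsClosedImmersion) sqD h6
  have het : Etale (pullback.snd (i ≫ φ) (iK V)) := by rw [← hiD]; exact hss3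
  let Δ : Set (Spec (CommRingCat.of (FractionRing V)) ⟶ pullback φ (iK V)) :=
    (fun δ => δ ≫ iD) '' {δ | δ ≫ pullback.snd (i ≫ φ) (iK V) = 𝟙 _}
  have hΔ : Δ.Finite := (finite_points (pullback.snd (i ≫ φ) (iK V))).image _
  obtain ⟨C', X, pX, k, g, e, τ, hk, hg, hpX, hnX, hst, sqe, hτ, hτδ, hτd, hτs⟩ :=
    Core.exists_core hC hN hSec hMod V φ hss2 Δ hΔ (by
      rintro _ ⟨δ, hδ, rfl⟩
      rw [Category.assoc, hiD]
      exact hδ) (by
      rintro _ ⟨δ, hδ, rfl⟩ x hx
      exact Set.disjoint_left.1 hss4 ⟨δ.base x, rfl⟩ (by simpa using hx))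
  have hΔf : Finite Δ := hΔ
  have heg : e ≫ g = pullback.fst φ (iK V) := by rw [sqe.w, Category.id_comp]
  -- the marks
  let U : Δ → Scheme.{u} := fun δ => pullback (τ δ) k
  let a : ∀ δ, U δ ⟶ Spec (CommRingCat.of V) := fun δ => pullback.fst (τ δ) k
  let b : ∀ δ, U δ ⟶ C' := fun δ => pullback.snd (τ δ) k
  have hab : ∀ δ, a δ ≫ τ δ = b δ ≫ k := fun δ => pullback.condition
  have hba : ∀ δ, b δ ≫ g ≫ φ = a δ := by
    intro δ
    rw [hst, ← Category.assoc, ← hab, Category.assoc, hτ, Category.comp_id]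
  have hao : ∀ δ, IsOpenImmersion (a δ) := fun δ => inferInstanceAs (IsOpenImmersion (pullback.fst (τ δ) k))
  have hτc : ∀ δ, IsClosedImmersion (τ δ) := fun δ => by
    have : IsClosedImmersion (τ δ ≫ pX) := by rw [hτ]; infer_instance
    exact IsClosedImmersion.of_comp (τ δ) pX
  have hbc : ∀ δ, IsClosedImmersion (b δ) := fun δ => by
    have := hτc δ
    exact inferInstanceAs (IsClosedImmersion (pullback.snd (τ δ) k))
  have hkb : ∀ δ x, k.base ((b δ).base x) = (τ δ).base ((a δ).base x) := by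
    intro δ x
    exact congrArg (fun m => m.base x) (hab δ).symm
  let i' : (∐ U) ⟶ C' := Sigma.desc b
  have hi' : IsClosedImmersion i' := by
    refine Gen.isClosedImmersion_sigmaDesc b hbc ?_
    intro δ δ' x y hxy
    have e1 : (τ δ).base ((a δ).base x) = (τ δ').base ((a δ').base y) := by
      rw [← hkb, ← hkb, hxy]
    have e2 : ∀ δ z, pX.base ((τ δ).base z) = z := fun δ z => by
      have := congrArg (fun m => m.base z) (hτ δ)
      simpa using this
    have e3 : (a δ).base x = (a δ').base y := by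
      have := congrArg pX.base e1
      rwa [e2, e2] at this
    rw [← e3] at e1
    exact hτd _ _ _ e1
  choose δ₀ hδ₀ hδ₀' using fun δ : Δ => δ.2
  let v : ∀ δ : Δ, Spec (CommRingCat.of (FractionRing V)) ⟶ U δ := fun δ =>
    pullback.lift (iK V) (δ.1 ≫ e) (by rw [Category.assoc, hτδ])
  have hva : ∀ δ, v δ ≫ a δ = iK V := fun δ => pullback.lift_fst _ _ _
  have hvb : ∀ δ : Δ, v δ ≫ b δ = δ.1 ≫ e := fun δ => pullback.lift_snd _ _ _
  have hvd : ∀ δ, IsSchemeTheoreticallyDominant (v δ) := by
    intro δ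
    have := hao δ
    have := Gen.dominant_iK V
    exact IsSchemeTheoreticallyDominant.of_isPullback (isPullback_of_mono (iK V) (a δ) (v δ) (hva δ))
  have hgD : ∀ δ, ∃ gδ : U δ ⟶ D, gδ ≫ i = b δ ≫ g := by
    intro δ
    have := hvd δ
    refine Extend.exists_factor i (b δ ≫ g) (v δ) (δ₀ δ ≫ pullback.fst (i ≫ φ) (iK V)) ?_
    have e1 : v δ ≫ b δ ≫ g = δ.1 ≫ pullback.fst φ (iK V) := by
      rw [← Category.assoc, hvb, Category.assoc, heg]
    have e2 : δ.1 ≫ pullback.fst φ (iK V) = (δ₀ δ ≫ iD) ≫ pullback.fst φ (iK V) :=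
      congrArg (· ≫ pullback.fst φ (iK V)) (hδ₀' δ).symm
    rw [e1, e2, Category.assoc, Category.assoc, sqD.w]
  choose gδ hgδ using hgD
  let gD : (∐ U) ⟶ D := Sigma.desc gδ
  have hcomm : i' ≫ g = gD ≫ i := by
    apply Sigma.hom_ext
    intro δ
    rw [← Category.assoc, ← Category.assoc, Sigma.ι_desc, Sigma.ι_desc, hgδ]
  have hstr : i' ≫ g ≫ φ = Sigma.desc a := by
    apply Sigma.hom_ext
    intro δ
    rw [← Category.assoc, Sigma.ι_desc, Sigma.ι_desc, hba]
  have hetD : Etale (i' ≫ g ≫ φ) := by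
    rw [hstr]
    exact IsZariskiLocalAtSource.sigmaDesc (P := @Etale) (fun δ => by
      have := hao δ
      infer_instance)
  have hetD' : Etale (gD ≫ i ≫ φ) := by
    rw [← Category.assoc, ← hcomm, Category.assoc]
    exact hetD
  -- properness and finite presentation
  have hlfpg : LocallyOfFinitePresentation (g ≫ φ) := by
    have := hnX.2.1
    rw [hst]
    infer_instance
  have hflg : Flat (g ≫ φ) := by
    have := hnX.1
    rw [hst]
    infer_instance
  have hgl : LocallyOfFinitePresentation g :=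
    MorphismProperty.of_postcomp (W := @LocallyOfFinitePresentation) (W' := @LocallyOfFiniteType) g φ
      inferInstance inferInstance
  have hgDp : IsProper gD := by
    have : IsProper (gD ≫ i) := by rw [← hcomm]; infer_instance
    exact IsProper.of_comp gD i
  have hgDl : LocallyOfFinitePresentation gD :=
    MorphismProperty.of_postcomp (W := @LocallyOfFinitePresentation) (W' := @LocallyOfFiniteType) gD (i ≫ φ)
      inferInstance inferInstance
  have hnod : Curv2.IsNodalFamily (g ≫ φ) := by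
    rw [hst]
    exact Groth.Agent.CurvesB.NodalEtale.isNodalFamily_precomp_etale _ _ hnX
  have hetaC : SSMod.IsEtaIso φ g := isEtaIso_of_K sqe
  have hetaD : SSMod.IsEtaIso (i ≫ φ) gD := by
    have sqG : IsPullback (pullback.fst gD (pullback.fst (i ≫ φ) (iK V)))
        (pullback.snd gD (pullback.fst (i ≫ φ) (iK V))) gD (pullback.fst (i ≫ φ) (iK V)) :=
      IsPullback.of_hasPullback _ _
    have sqG' : IsPullback (pullback.fst gD (pullback.fst (i ≫ φ) (iK V)))
        (pullback.snd gD (pullback.fst (i ≫ φ) (iK V)) ≫ iD) (gD ≫ i) (pullback.fst φ (iK V)) :=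
      sqG.paste_vert sqD
    have h1 : IsClosedImmersion (pullback.snd gD (pullback.fst (i ≫ φ) (iK V)) ≫ iD) := by
      rw [← hcomm] at sqG'
      have h2 : IsPullback (pullback.fst gD (pullback.fst (i ≫ φ) (iK V)))
        ((pullback.snd gD (pullback.fst (i ≫ φ) (iK V)) ≫ iD) ≫ 𝟙 _) (i' ≫ g) (pullback.fst φ (iK V)) := by
        rw [Category.comp_id]
        exact sqG'
      have h3 : IsPullback (pullback.fst gD (pullback.fst (i ≫ φ) (iK V)))
        (pullback.snd gD (pullback.fst (i ≫ φ) (iK V)) ≫ iD) i' e := by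
        refine IsPullback.of_bot h2 ?_ sqe
        have e1 : (pullback.fst gD (pullback.fst (i ≫ φ) (iK V)) ≫ i') ≫ g =
            (pullback.snd gD (pullback.fst (i ≫ φ) (iK V)) ≫ iD) ≫ pullback.fst φ (iK V) := by
          rw [Category.assoc]
          exact sqG'.w
        have e2 := sqe.lift_snd _ _ e1
        rw [Category.comp_id] at e2
        rw [← e2]
        exact (sqe.lift_fst _ _ e1).symm
      exact MorphismProperty.of_isPullback (P := @IsClosedImmersion) h3 hi'
    have h2 : IsClosedImmersion (pullback.snd gD (pullback.fst (i ≫ φ) (iK V))) :=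
      IsClosedImmersion.of_comp _ iD
    have h3 : AlgebraicGeometry.IsReduced (pullback (i ≫ φ) (iK V)) := by
      have := K971.SmoothEta.isOpenImmersion_fractionRing V
      have : IsOpenImmersion (pullback.fst (i ≫ φ) (iK V)) := inferInstance
      exact isReduced_of_isOpenImmersion (pullback.fst (i ≫ φ) (iK V))
    have h4 : Surjective (pullback.snd gD (pullback.fst (i ≫ φ) (iK V))) := by
      refine ⟨fun x => ?_⟩
      obtain ⟨δ', hδ', hx⟩ := exists_point (pullback.snd (i ≫ φ) (iK V)) x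
      let δ : Δ := ⟨δ' ≫ iD, δ', hδ', rfl⟩
      have e1 : v δ ≫ b δ ≫ g = (δ' ≫ iD) ≫ pullback.fst φ (iK V) := by
        rw [← Category.assoc, hvb, Category.assoc, heg]
      let z := pullback.lift (f := gD) (g := pullback.fst (i ≫ φ) (iK V)) (v δ ≫ Sigma.ι U δ) δ' (by
        rw [← cancel_mono i]
        have e2 : Sigma.ι U δ ≫ gD = gδ δ := Sigma.ι_desc _ _
        rw [Category.assoc, Category.assoc, reassoc_of% e2, hgδ, e1, Category.assoc, Category.assoc, sqD.w])
      have hz : z ≫ pullback.snd gD (pullback.fst (i ≫ φ) (iK V)) = δ' := pullback.lift_snd _ _ _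
      refine ⟨z.base (IsLocalRing.closedPoint (FractionRing V)), ?_⟩
      have h5 := congrArg (fun m => m.base (IsLocalRing.closedPoint (FractionRing V))) hz
      rw [← hx (IsLocalRing.closedPoint (FractionRing V)), ← h5]
      rfl
    have h5 : IsIso (pullback.snd gD (pullback.fst (i ≫ φ) (iK V))) :=
      isIso_of_isClosedImmersion_of_surjective _
    exact isEtaIso_of_K sqG
  have hMP' : SSMod.IsMPCurve (g ≫ φ) i' :=
    ⟨hflg, hlfpg, inferInstance, inferInstance, fun y => (hnod.2.2 y).1, hi', inferInstance, inferInstance,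
      K866.MPBack.hasRelDim_zero _⟩
  refine ⟨C', ∐ U, i', g, gD, ⟨⟨hcomm, hMP', ?_, ?_⟩, hMP', hnod, hetD, ?_⟩, hetaC, hetaD⟩
  · exact K971.EtaNbhd.isModification_baseChange hetaC (t := 𝟙 _) (by simp)
      (IsPullback.of_horiz_isIso ⟨by simp⟩ : IsPullback (𝟙 _) φ φ (𝟙 _)) (p' := 𝟙 _) (fT := g)
      (IsPullback.of_horiz_isIso ⟨by simp⟩)
  · exact K971.EtaNbhd.isModification_baseChange hetaD (t := 𝟙 _) (by simp)
      (IsPullback.of_horiz_isIso ⟨by simp⟩ : IsPullback (𝟙 _) (i ≫ φ) (i ≫ φ) (𝟙 _)) (p' := 𝟙 _) (fT := gD)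
      (IsPullback.of_horiz_isIso ⟨by simp⟩)
  · rw [Set.disjoint_left]
    rintro _ ⟨x, rfl⟩ hx
    obtain ⟨δ, y, rfl⟩ := Gen.exists_sigma U x
    have e1 : i'.base ((Sigma.ι U δ).base y) = (b δ).base y :=
      congrArg (fun m => m.base y) (Sigma.ι_desc b δ)
    have e2 : i' ((Sigma.ι U δ) y) = (b δ) y := e1
    have hx' : (b δ) y ∈ DualGr.nonsmoothPts (g ≫ φ) := by
      rw [← e2]
      exact hx
    rw [hst] at hx'
    apply hτs δ ((a δ).base y)
    rw [← hkb]
    exact (not_congr (Groth.Agent.UnramA.NearPoint.stalkMap_comp_of_isOpenImmersion_formallySmooth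
        k pX ((b δ) y))).1 hx'

end K122.Assemble
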