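import Groth.Agent.SSMod.K971.SsLocus
import Groth.Prelude.Def_StCurv

/-!
# Existence of the stable modification over a valuation ring: the interfaces

Everything is stated as a `Prop`; nothing is assumed.

* `Valex`: a stable pointed curve over an algebraically closed `K = Frac V` extends to a stable pointed family
  over the valuation ring `V` (consequence of S16726: `Mbar` is proper over every base).
* `LocSS`: `K` algebraically closed, `C` affine: `(C, D)` has a semistable modification which is an isomorphism on generic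
  fibres (three points argument, from `Valex`).
* `Contr`: the same situation, from semistable to stable (contraction of the exceptional components).
* `StabAlg`: S15281 for algebraically closed fraction field (from `LocSS`, `Contr` and S15274, by gluing).
* `Frob`: `StabAlg` implies S15281 (descent along the relative Frobenius).
-/

set_option autoImplicit false
universe u
open CategoryTheory CategoryTheory.Limits AlgebraicGeometry

namespace K122.Plan

/-- Stable pointed curves over the fraction field of a valuation ring with algebraically closed fraction field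
extend. -/
def Valex : Prop := ∀ (V : Type u) [CommRing V] [IsDomain V] [ValuationRing V] [Finite (PrimeSpectrum V)]
    [IsAlgClosed (FractionRing V)] (g n : ℕ) (_ : 3 ≤ 2 * g + n)
    {X : Scheme.{u}} (p : X ⟶ Spec (CommRingCat.of (FractionRing V)))
    (σ : Fin n → (Spec (CommRingCat.of (FractionRing V)) ⟶ X)) (hσ : ∀ i, σ i ≫ p = 𝟙 _)
    (_ : CurvSt.IsStableFam p σ hσ g),
    ∃ (Y : Scheme.{u}) (q : Y ⟶ Spec (CommRingCat.of V)) (τ : Fin n → (Spec (CommRingCat.of V) ⟶ Y))
      (hτ : ∀ i, τ i ≫ q = 𝟙 _) (e : X ⟶ Y), CurvSt.IsStableFam q τ hτ g ∧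
      IsPullback e p q (Spec.map (CommRingCat.ofHom (algebraMap V (FractionRing V)))) ∧
      ∀ i, σ i ≫ e = Spec.map (CommRingCat.ofHom (algebraMap V (FractionRing V))) ≫ τ i

/-- S15281 for an algebraically closed fraction field. -/
def StabAlg : Prop := ∀ (R : Type u) [CommRing R] [IsDomain R] [ValuationRing R] [Finite (PrimeSpectrum R)]
    [IsAlgClosed (FractionRing R)]
    {C D : Scheme.{u}} (φ : C ⟶ Spec (CommRingCat.of R)) (i : D ⟶ C)
    (_ : SSMod.IsMPCurve φ i) [IsReduced C] [IsReduced D]
    (_ : SSMod.IsSemistable (pullback.snd φ ((Spec (CommRingCat.of R)).fromSpecStalk (genericPoint (Spec (CommRingCat.of R)))))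
      (CInt.baseChangeOver i φ ((Spec (CommRingCat.of R)).fromSpecStalk (genericPoint (Spec (CommRingCat.of R)))))),
    ∃ (Cst Dst : Scheme.{u}) (ist : Dst ⟶ Cst) (fC : Cst ⟶ C) (fD : Dst ⟶ D),
      SSMod.IsStableModification φ i ist fC fD ∧ SSMod.IsEtaIso φ fC ∧
        SSMod.IsEtaIso (i ≫ φ) fD

/-- Semistable modification, `C` affine, algebraically closed fraction field. -/
def LocSS : Prop := ∀ (R : Type u) [CommRing R] [IsDomain R] [ValuationRing R] [Finite (PrimeSpectrum R)]
    [IsAlgClosed (FractionRing R)]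
    {C D : Scheme.{u}} [IsAffine C] (φ : C ⟶ Spec (CommRingCat.of R)) (i : D ⟶ C)
    (_ : SSMod.IsMPCurve φ i) [IsReduced C] [IsReduced D]
    (_ : SSMod.IsSemistable (pullback.snd φ ((Spec (CommRingCat.of R)).fromSpecStalk (genericPoint (Spec (CommRingCat.of R)))))
      (CInt.baseChangeOver i φ ((Spec (CommRingCat.of R)).fromSpecStalk (genericPoint (Spec (CommRingCat.of R)))))),
    ∃ (C' D' : Scheme.{u}) (i' : D' ⟶ C') (gC : C' ⟶ C) (gD : D' ⟶ D),
      SSMod.IsSemistableModification φ i i' gC gD ∧ SSMod.IsEtaIso φ gC ∧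
        SSMod.IsEtaIso (i ≫ φ) gD

/-- Contraction of exceptional components, `C` affine, algebraically closed fraction field. -/
def Contr : Prop := ∀ (R : Type u) [CommRing R] [IsDomain R] [ValuationRing R] [Finite (PrimeSpectrum R)]
    [IsAlgClosed (FractionRing R)]
    {C D C' D' : Scheme.{u}} [IsAffine C] (φ : C ⟶ Spec (CommRingCat.of R)) (i : D ⟶ C)
    (_ : SSMod.IsMPCurve φ i) [IsReduced C] [IsReduced D]
    (i' : D' ⟶ C') (gC : C' ⟶ C) (gD : D' ⟶ D) (_ : SSMod.IsSemistableModification φ i i' gC gD)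
    (_ : SSMod.IsEtaIso φ gC) (_ : SSMod.IsEtaIso (i ≫ φ) gD),
    ∃ (Cst Dst : Scheme.{u}) (ist : Dst ⟶ Cst) (fC : Cst ⟶ C) (fD : Dst ⟶ D),
      SSMod.IsStableModification φ i ist fC fD ∧ SSMod.IsEtaIso φ fC ∧
        SSMod.IsEtaIso (i ≫ φ) fD

/-- Descent along the relative Frobenius: S15281 from the algebraically closed case. -/
def Frob : Prop := StabAlg.{u} → ∀ (R : Type u) [CommRing R] [IsDomain R] [ValuationRing R] [Finite (PrimeSpectrum R)]
    [IsSepClosed (FractionRing R)]
    {C D : Scheme.{u}} (φ : C ⟶ Spec (CommRingCat.of R)) (i : D ⟶ C)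
    (_ : SSMod.IsMPCurve φ i) [IsReduced C] [IsReduced D]
    (_ : SSMod.IsSemistable (pullback.snd φ ((Spec (CommRingCat.of R)).fromSpecStalk (genericPoint (Spec (CommRingCat.of R)))))
      (CInt.baseChangeOver i φ ((Spec (CommRingCat.of R)).fromSpecStalk (genericPoint (Spec (CommRingCat.of R)))))),
    ∃ (Cst Dst : Scheme.{u}) (ist : Dst ⟶ Cst) (fC : Cst ⟶ C) (fD : Dst ⟶ D),
      SSMod.IsStableModification φ i ist fC fD ∧ SSMod.IsEtaIso φ fC ∧
        SSMod.IsEtaIso (i ≫ φ) fD

end K122.Plan
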