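import Groth.Agent.FlatMor.K263.EtaRed
import Groth.Agent.FlatMor.K263.ToImage
import Groth.Agent.S0388

/-!
# Modifications of flat schemes with geometrically reduced fibres over a normal base have connected fibres
-/

set_option autoImplicit false
universe u

open CategoryTheory AlgebraicGeometry Limits TopologicalSpace

namespace K122.Stein

variable {S X G P : Scheme.{u}} [IsIntegral S] (hS : Pi1.IsNormalScheme S) (φ : X ⟶ S) [Flat φ]
  [LocallyOfFinitePresentation φ] (hred : K263.EtaRed.Red φ) {q : P ⟶ X}
  {t : P ⟶ Spec (S.presheaf.stalk (genericPoint S))}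
  (HP : IsPullback q t φ (S.fromSpecStalk (genericPoint S)))

include HP in
theorem mono_q : Mono q := MorphismProperty.of_isPullback (P := MorphismProperty.monomorphisms Scheme.{u}) HP.flip
    (MorphismProperty.monomorphisms.infer_property _)

include HP in
theorem flat_q : Flat q :=
  MorphismProperty.of_isPullback (P := @Flat) HP.flip (K263.EtaRed.flat_fromSpecStalk S _)

include HP in
theorem quasiCompact_q : QuasiCompact q :=
  MorphismProperty.of_isPullback (P := @QuasiCompact) HP.flip (K263.GenFibre.quasiCompact_fromSpecStalk S)

include hS hred HP in
/-- An integral morphism with a schematically dominant generic section is an isomorphism. -/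
theorem isIso_of_section (a : G ⟶ X) [IsIntegralHom a] (s : P ⟶ G) (hs : s ≫ a = q)
    [IsSchemeTheoreticallyDominant s] : IsIso a := by
  have hq1 := mono_q φ HP
  have hq2 := flat_q φ HP
  have hq3 := quasiCompact_q φ HP
  have hsq : QuasiCompact (s ≫ a) := by rw [hs]; exact hq3
  have hqc : QuasiCompact s := MorphismProperty.of_postcomp (W := @QuasiCompact) (W' := @QuasiSeparated) s a
    inferInstance hsq
  have hiso : IsIso (pullback.snd a q) := K263.EtaRed.isIso_snd_of_section a q s hs
  have hdom : IsSchemeTheoreticallyDominant (pullback.fst a q) := by
    have h2 : pullback.lift s (𝟙 P) (by rw [hs, Category.id_comp]) ≫ pullback.fst a q = s :=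
      pullback.lift_fst _ _ _
    have : IsSchemeTheoreticallyDominant
        (pullback.lift s (𝟙 P) (by rw [hs, Category.id_comp]) ≫ pullback.fst a q) := by
      rw [h2]; infer_instance
    exact K263.ToImage.of_comp (pullback.lift s (𝟙 P) _) (pullback.fst a q)
  exact K263.EtaFinite.isIso_of_isIntegralHom hS φ hred a HP (IsPullback.of_hasPullback a q) hiso hdom

include hS hred HP in
theorem isIso_fromNormalization (a : G ⟶ X) [QuasiCompact a] [QuasiSeparated a] (s : P ⟶ G) (hs : s ≫ a = q)
    [IsSchemeTheoreticallyDominant s] : IsIso a.fromNormalization := by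
  have hN : IsSchemeTheoreticallyDominant a.toNormalization := ⟨a.ker_toNormalization⟩
  exact isIso_of_section hS φ hred HP a.fromNormalization (s ≫ a.toNormalization)
    (by rw [Category.assoc, Scheme.Hom.toNormalization_fromNormalization, hs])

include hS hred HP in
/-- A proper morphism to `X` with a schematically dominant generic section has geometrically connected fibres. -/
theorem geometricallyConnected (a : G ⟶ X) [IsProper a] (s : P ⟶ G) (hs : s ≫ a = q)
    [IsSchemeTheoreticallyDominant s] : GeometricallyConnected a := by
  have h1 := isIso_fromNormalization hS φ hred HP a s hs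
  have h2 := (Groth.Agent.S0388.result a).1
  have h3 : GeometricallyConnected (a.toNormalization ≫ a.fromNormalization) :=
    (MorphismProperty.cancel_right_of_respectsIso (P := @GeometricallyConnected) _ _).mpr h2
  rwa [Scheme.Hom.toNormalization_fromNormalization] at h3

theorem isPreconnected_preimage (a : G ⟶ X) [GeometricallyConnected a] (x : X) :
    _root_.IsPreconnected (a.base ⁻¹' {x}) := by
  have h1 : ConnectedSpace (a.fiber x) := inferInstance
  have h2 : Set.range (a.fiberι x).base = a.base ⁻¹' {x} := Scheme.Hom.range_fiberι a x
  rw [← h2]
  exact isPreconnected_range (a.fiberι x).continuous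

end K122.Stein
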