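import Groth.Agent.SSMod.K122.FieldPts

/-!
# The three points lemma over an algebraically closed field
-/

set_option autoImplicit false
universe u

open CategoryTheory AlgebraicGeometry Limits TopologicalSpace K122.ThreeTopo

namespace K122.ThreeTopo

variable {G X W : Type*} [TopologicalSpace G] [TopologicalSpace X] [TopologicalSpace W]

/-- If closed points lie under closed points only, closed maps with connected fibres of one-dimensional
spaces are injective. -/
theorem injective_of_isClosed [NoetherianSpace G] [QuasiSober G]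
    (a : G → X) (ha : Continuous a) (hac : IsClosedMap a) (hG : D1 G)
    (ca : ∀ x, _root_.IsPreconnected (a ⁻¹' {x}))
    (h : ∀ g, IsClosed ({a g} : Set X) → IsClosed ({g} : Set G)) : Function.Injective a := by
  intro g g' hgg
  by_cases hx : IsClosed ({a g} : Set X)
  · by_contra hne
    obtain ⟨ξ, hξ, hne', hs⟩ := exists_specializes (T := a ⁻¹' {a g}) (hx.preimage ha) (ca _)
      (e := g) (g := g') rfl hgg.symm (fun h => hne h.symm) (h g hx)
    have h1 : IsClosed ({ξ} : Set G) := h ξ (by rw [show a ξ = a g from hξ]; exact hx)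
    have h2 := specializes_iff_mem_closure.mp hs
    rw [h1.closure_eq] at h2
    exact hne' h2.symm
  · have h1 : (a ⁻¹' {a g}).Subsingleton := by
      apply subsingleton_of_maxl _ (ca _)
      intro z hz
      apply maxl_of_not_isClosed hG
      intro hzc
      have := hac _ hzc
      rw [Set.image_singleton, show a z = a g from hz] at this
      exact hx this
    exact h1 rfl hgg.symm

end K122.ThreeTopo

namespace K122.ThreeField

variable {k : Type u} [Field k] [IsAlgClosed k] {P X W G : Scheme.{u}}

/-- The three points lemma. -/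
theorem injective {pX : X ⟶ Spec (CommRingCat.of k)} {pW : W ⟶ Spec (CommRingCat.of k)}
    {f : P ⟶ X} {g : P ⟶ W} (sq : IsPullback f g pX pW) [IsProper pX] [IsProper pW]
    (a : G ⟶ X) (b : G ⟶ W) [IsProper a] [IsProper b]
    (ι : G ⟶ P) [IsClosedImmersion ι] (ha : ι ≫ f = a) (hb : ι ≫ g = b)
    (hG : topologicalKrullDim G ≤ 1) (hX : topologicalKrullDim X ≤ 1) (hW : topologicalKrullDim W ≤ 1)
    (hn : letI : X.Over (Spec (CommRingCat.of k)) := ⟨pX⟩; Curv2.AtWorstNodal k X)
    (ca : ∀ x, _root_.IsPreconnected (a.base ⁻¹' {x}))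
    (cb : ∀ w, _root_.IsPreconnected (b.base ⁻¹' {w}))
    (marks : ∀ E ∈ irreducibleComponents (W : Type u), ∃ γ : Fin 3 → G, (∀ i, b.base (γ i) ∈ E) ∧
      (∀ i, IsClosed ({γ i} : Set G)) ∧ Function.Injective (b.base ∘ γ) ∧ Function.Injective (a.base ∘ γ) ∧
      ∀ i, ∃ U : X.Opens, a.base (γ i) ∈ U ∧ Smooth (U.ι ≫ pX)) :
    Function.Injective a.base := by
  letI : X.Over (Spec (CommRingCat.of k)) := ⟨pX⟩
  have hN : IsNoetherian G := by
    have h1 : LocallyOfFiniteType (a ≫ pX) := inferInstance
    have h2 : IsLocallyNoetherian G := LocallyOfFiniteType.isLocallyNoetherian (a ≫ pX)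
    have h3 : CompactSpace G := by
      have : QuasiCompact (a ≫ pX) := inferInstance
      exact HasAffineProperty.iff_of_isAffine (P := @QuasiCompact).mp this
    constructor
  have hlt : LocallyOfFiniteType (X ↘ Spec (CommRingCat.of k)) := by
    show LocallyOfFiniteType pX
    infer_instance
  have hab : a ≫ pX = b ≫ pW := by rw [← ha, ← hb, Category.assoc, Category.assoc, sq.w]
  have D := FieldPts.d1_of_dim_le hG
  have key := isClosed_of_isClosed_image (G := G) (X := X) (W := W) a.base b.base a.continuous b.continuous
    a.isClosedMap b.isClosedMap D (FieldPts.d1_of_dim_le hX) (FieldPts.d1_of_dim_le hW)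
    (fun z h1 h2 => by
      have h3 : IsClosed ({ι.base z} : Set P) := by
        apply FieldPts.isClosed_of_isPullback sq
        · rw [← ha] at h1; simpa using h1
        · rw [← hb] at h2; simpa using h2
      have h4 : ({z} : Set G) = ι.base ⁻¹' {ι.base z} := by
        ext w
        exact ⟨by rintro rfl; rfl, fun h => ι.injective h⟩
      rw [h4]
      exact h3.preimage ι.continuous)
    ca (fun w _ => cb w)
    (fun x hx => FieldPts.encard_le_two k X hn x hx)
    (fun ε hε => by
      have hE : closure ({ε} : Set W) ∈ irreducibleComponents (W : Type u) := by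
        rw [irreducibleComponents_eq_maximals_closed]
        refine ⟨⟨isClosed_closure, isIrreducible_singleton.closure⟩, ?_⟩
        rintro Z ⟨hZc, hZi⟩ hle
        obtain ⟨ζ, hζ⟩ := QuasiSober.sober hZi hZc
        have : ζ ⤳ ε := by
          rw [specializes_iff_mem_closure, hζ]
          exact hle (subset_closure rfl)
        have := hε ζ this
        rw [← hζ, this]
      obtain ⟨γ, h1, h2, h3, h4, h5⟩ := marks _ hE
      refine ⟨γ, fun i => specializes_iff_mem_closure.mpr (h1 i), h2, h3, h4, fun i => ?_⟩
      have h6 : IsRegularLocalRing (X.presheaf.stalk (a.base (γ i))) :=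
        Groth.Agent.CurvesB.NodeSch2.isRegularLocalRing_of_exists k (a.base (γ i)) (h5 i)
      have h7 : IsDomain (X.presheaf.stalk (a.base (γ i))) := Groth.Agent.CalgA.RegBasic.isDomain _
      exact FieldPts.encard_le_one_of_isDomain _)
  exact injective_of_isClosed a.base a.continuous a.isClosedMap D ca key

end K122.ThreeField
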