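import Groth.Agent.FlatMor.K263.RFBall
import Groth.Agent.FlatMor.K262.FlatDim2
import Groth.Agent.FlatMor.K263.GenFibre
import Groth.Agent.FlatMor.K263.EtaRed
import Groth.Agent.NonAbH1.K974.ValDom
import Groth.Agent.QGor.K970.BCHyp
import Groth.Agent.AlgSp.K616.FibField
import Groth.Agent.FlatMor.K260.EquidimDim

/-!
# Schemes over a valuation ring: normality of the base, residue fields, closures of generic fibres
-/

set_option autoImplicit false
universe u

open CategoryTheory AlgebraicGeometry Limits TopologicalSpace

namespace K122.ValBase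

theorem isNormalScheme_spec (A : Type u) [CommRing A] [IsDomain A] [IsIntegrallyClosed A] :
    Pi1.IsNormalScheme (Spec (CommRingCat.of A)) := by
  intro x
  have hx : x.asIdeal.IsPrime := x.isPrime
  let _ : Algebra A ((Spec (CommRingCat.of A)).presheaf.stalk x) := StructureSheaf.stalkAlgebra A x
  have h1 : IsLocalization.AtPrime ((Spec (CommRingCat.of A)).presheaf.stalk x) x.asIdeal :=
    StructureSheaf.IsLocalization.to_stalk A x
  have h2 : IsDomain ((Spec (CommRingCat.of A)).presheaf.stalk x) :=
    IsLocalization.isDomain_of_atPrime _ x.asIdeal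
  exact ⟨h2, isIntegrallyClosed_of_isLocalization _ x.asIdeal.primeCompl
    x.asIdeal.primeCompl_le_nonZeroDivisors⟩

theorem isNormalScheme (V : Type u) [CommRing V] [IsDomain V] [ValuationRing V] :
    Pi1.IsNormalScheme (Spec (CommRingCat.of V)) := by
  have := K263.RFGauss.isIntegrallyClosed_of_valuationRing V
  exact isNormalScheme_spec V

theorem valuationRing_of_isLocalization (V A : Type u) [CommRing V] [IsDomain V] [ValuationRing V] [CommRing A]
    [IsDomain A] [Algebra V A] (p : Ideal V) [p.IsPrime] [IsLocalization.AtPrime A p] : ValuationRing A := by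
  rw [ValuationRing.iff_dvd_total]
  refine ⟨fun a b => ?_⟩
  obtain ⟨a, s, rfl⟩ := IsLocalization.exists_mk'_eq p.primeCompl a
  obtain ⟨b, t, rfl⟩ := IsLocalization.exists_mk'_eq p.primeCompl b
  have key : ∀ (a b : V) (s t : p.primeCompl), a ∣ b →
      IsLocalization.mk' A a s ∣ IsLocalization.mk' A b t := by
    rintro a _ s t ⟨c, rfl⟩
    refine ⟨IsLocalization.mk' A (s * c) t, ?_⟩
    rw [← IsLocalization.mk'_mul, IsLocalization.mk'_eq_iff_eq]
    congr 1
    simp only [Submonoid.coe_mul]
    ring
  obtain h | h := ValuationRing.dvd_total a b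
  · exact Or.inl (key a b s t h)
  · exact Or.inr (key b a t s h)

theorem isAlgClosed_residueField (V : Type u) [CommRing V] [IsDomain V] [ValuationRing V]
    [IsAlgClosed (FractionRing V)] (y : Spec (CommRingCat.of V)) :
    IsAlgClosed ((Spec (CommRingCat.of V)).residueField y) := by
  have hy : y.asIdeal.IsPrime := y.isPrime
  let A := (Spec (CommRingCat.of V)).presheaf.stalk y
  let _ : Algebra V A := StructureSheaf.stalkAlgebra V y
  have h1 : IsLocalization.AtPrime A y.asIdeal := StructureSheaf.IsLocalization.to_stalk V y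
  have h2 : IsDomain A := IsLocalization.isDomain_of_atPrime _ y.asIdeal
  have h3 : ValuationRing A := valuationRing_of_isLocalization V A y.asIdeal
  have hle : ∀ s : y.asIdeal.primeCompl, IsUnit (algebraMap V (FractionRing V) s) := by
    intro s
    have : (s : V) ≠ 0 := fun h => s.2 (by rw [h]; exact y.asIdeal.zero_mem)
    exact (IsUnit.mk0 _ (by simpa using this))
  let _ : Algebra A (FractionRing V) := (IsLocalization.lift (M := y.asIdeal.primeCompl) hle).toAlgebra
  have h4 : IsScalarTower V A (FractionRing V) := IsScalarTower.of_algebraMap_eq' (by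
    rw [RingHom.algebraMap_toAlgebra]
    exact (IsLocalization.lift_comp _).symm)
  have h5 : IsFractionRing A (FractionRing V) :=
    IsFractionRing.isFractionRing_of_isDomain_of_isLocalization y.asIdeal.primeCompl A (FractionRing V)
  exact K263.RFBall.isAlgClosed_residueField A (FractionRing V)

/-- Over a valuation ring, the target of a schematically dominant morphism from a flat scheme is flat. -/
theorem flat_of_dominant (V : Type u) [CommRing V] [IsDomain V] [ValuationRing V] {X Y : Scheme.{u}}
    (f : X ⟶ Y) (g : Y ⟶ Spec (CommRingCat.of V)) [QuasiCompact f] [IsSchemeTheoreticallyDominant f]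
    [Flat (f ≫ g)] : Flat g :=
  K974.ValDom.flat_of_ker_eq_bot_spec V f g (Scheme.Hom.ker_eq_bot f)

theorem hasRelDim_field {k : Type u} [Field k] {X : Scheme.{u}} (q : X ⟶ Spec (CommRingCat.of k)) (n : ℕ) :
    Cyc.HasRelDim q n ↔ ∀ T ∈ irreducibleComponents (X : Type u), topologicalKrullDim T = n := by
  constructor
  · intro h
    let y : Spec (CommRingCat.of k) := IsLocalRing.closedPoint k
    have := K616.FibField.isIso_fiberι q y
    exact K260.EquidimDim.forall_dim_of_homeomorph (Scheme.homeoOfIso (asIso (q.fiberι y))) n (h y)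
  · intro h y
    have := K616.FibField.isIso_fiberι q y
    exact K260.EquidimDim.forall_dim_of_homeomorph (Scheme.homeoOfIso (asIso (q.fiberι y))).symm n h

section Dim

variable {S Y P : Scheme.{u}} [IsIntegral S] (g : Y ⟶ S) [Flat g] [LocallyOfFiniteType g]

open Groth.Agent Groth.Agent.CycB.RelDim Groth.Agent.Ega4fib.H174 in
theorem hasRelDim_of_generic_aux {n : ℕ} (y : S) (hy : y = genericPoint S)
    (h : ∀ T ∈ irreducibleComponents ↥(g.fiber y), topologicalKrullDim T = n) :
    Cyc.HasRelDim g n := by
  intro s T hT
  obtain ⟨z, hz, rfl⟩ := Equidim.mem_irreducibleComponents_iff.mp hT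
  obtain ⟨ξ, -, hξ, hr⟩ := K262.FlatDim.exists_component g s z hz
  have hη : g ξ = y := by
    rw [hy]
    exact (K262.FlatDim.maximal_image g hξ _ (genericPoint_specializes _)).symm
  subst hη
  obtain ⟨m, hm1, hm2⟩ := K262.FlatDim.dim_closure_fiber g s z
  obtain ⟨m', hm1', hm2'⟩ := K262.FlatDim.dim_closure_fiber g (g ξ) (g.asFiber ξ)
  rw [g.fiberι_asFiber] at hm1'
  have h1 := K262.FlatDim.closure_asFiber_mem g hξ
  have h2 := h _ h1
  rw [hm2'] at h2
  rw [hm2, ← h2]
  have h4 : m = m' := by
    have := hm1.symm.trans (hr.trans hm1')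
    exact_mod_cast this
  rw [h4]

theorem hasRelDim_of_isPullback {n : ℕ} {q : P ⟶ Y} {t : P ⟶ Spec (S.presheaf.stalk (genericPoint S))}
    (H : IsPullback q t g (S.fromSpecStalk (genericPoint S))) (ht : Cyc.HasRelDim t n) : Cyc.HasRelDim g n := by
  refine hasRelDim_of_generic_aux g (genericPoint S) rfl ?_
  intro T hT
  have hlt : LocallyOfFiniteType t := MorphismProperty.of_isPullback (P := @LocallyOfFiniteType) H inferInstance
  -- the fibre is a base change of the generic fibre
  let c : Spec (S.residueField (genericPoint S)) ⟶ Spec (S.presheaf.stalk (genericPoint S)) :=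
    Spec.map (S.residue (genericPoint S))
  have hc : c ≫ S.fromSpecStalk (genericPoint S) = S.fromSpecResidueField (genericPoint S) := rfl
  have h1 : IsPullback (g.fiberι (genericPoint S)) (g.fiberToSpecResidueField (genericPoint S)) g
      (c ≫ S.fromSpecStalk (genericPoint S)) := IsPullback.of_hasPullback _ _
  have h2 : IsPullback (H.lift (g.fiberι (genericPoint S)) (g.fiberToSpecResidueField (genericPoint S) ≫ c)
      (by rw [h1.w, Category.assoc])) (g.fiberToSpecResidueField (genericPoint S)) t c := by
    refine IsPullback.of_right ?_ ?_ H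
    · rw [H.lift_fst]; exact h1
    · rw [H.lift_snd]
  exact (hasRelDim_field (k := S.residueField (genericPoint S)) _ n).mp
    (K970.BCHyp.hasRelDim_of_isPullback h2 ht) T hT

end Dim

end K122.ValBase
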