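import Groth.Agent.SSMod.K122.Fib
import Groth.Agent.SSMod.K122.Stein
import Groth.Agent.SSMod.K122.ValBase
import Groth.Agent.SSMod.K122.ThreeField
import Groth.Agent.QGor.K967.ReflUnit

/-!
# The three points lemma over a valuation ring

`V` a valuation ring with algebraically closed fraction field, `X` a proper nodal curve over `V`, `W` a proper flat curve
with geometrically reduced fibres, with the same generic fibre `P`; if every component of every fibre of `W` carries
three of a family of common sections, which are distinct there, and distinct and in the smooth locus on `X`, then the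
identity of `P` extends to a morphism `X ⟶ W`.
-/

set_option autoImplicit false
universe u

open CategoryTheory AlgebraicGeometry Limits TopologicalSpace

namespace K122.Extend

/-- A morphism from a reduced source factoring generically through a closed subscheme factors. -/
theorem exists_factor {S Z G K : Scheme.{u}} (ι : G ⟶ Z) [IsClosedImmersion ι] (g : S ⟶ Z) (η : K ⟶ S)
    [IsSchemeTheoreticallyDominant η] (h : K ⟶ G) (w : h ≫ ι = η ≫ g) : ∃ g' : S ⟶ G, g' ≫ ι = g := by
  let c := pullback.fst g ι
  have hl : pullback.lift η h w.symm ≫ c = η := pullback.lift_fst _ _ _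
  have h1 : IsSchemeTheoreticallyDominant (pullback.lift η h w.symm ≫ c) := by rw [hl]; infer_instance
  have h2 : IsSchemeTheoreticallyDominant c := K263.ToImage.of_comp (pullback.lift η h w.symm) c
  have h3 : IsIso c := IsClosedImmersion.isIso_of_ker_eq c (𝟙 _) c (Category.comp_id _) (by
    rw [h2.ker_eq_bot, Scheme.Hom.ker_eq_bot])
  refine ⟨inv c ≫ pullback.snd g ι, ?_⟩
  rw [Category.assoc, ← pullback.condition, IsIso.inv_hom_id_assoc]

variable (V : Type u) [CommRing V] [IsDomain V] [ValuationRing V] [IsAlgClosed (FractionRing V)]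
  {X W P : Scheme.{u}} (pX : X ⟶ Spec (CommRingCat.of V)) (pW : W ⟶ Spec (CommRingCat.of V))
  [IsProper pX] [Flat pX] [LocallyOfFinitePresentation pX]
  [IsProper pW] [Flat pW] [LocallyOfFinitePresentation pW]
  (hX : Curv2.IsNodalFamily pX) (hXr : K263.EtaRed.Red pX) (hWr : K263.EtaRed.Red pW)
  (hWd : Cyc.HasRelDim pW 1)
  {q : P ⟶ X} {r : P ⟶ W}
  {t : P ⟶ Spec ((Spec (CommRingCat.of V)).presheaf.stalk (genericPoint (Spec (CommRingCat.of V))))}
  (HX : IsPullback q t pX ((Spec (CommRingCat.of V)).fromSpecStalk (genericPoint (Spec (CommRingCat.of V)))))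
  (HW : IsPullback r t pW ((Spec (CommRingCat.of V)).fromSpecStalk (genericPoint (Spec (CommRingCat.of V)))))
  {ι : Type} (τ : ι → (Spec (CommRingCat.of V) ⟶ X)) (hτ : ∀ j, τ j ≫ pX = 𝟙 _)
  (ω : ι → (Spec (CommRingCat.of V) ⟶ W)) (hω : ∀ j, ω j ≫ pW = 𝟙 _)
  (κ : ι → (Spec ((Spec (CommRingCat.of V)).presheaf.stalk (genericPoint (Spec (CommRingCat.of V)))) ⟶ P))
  (hκX : ∀ j, κ j ≫ q = (Spec (CommRingCat.of V)).fromSpecStalk (genericPoint (Spec (CommRingCat.of V))) ≫ τ j)
  (hκW : ∀ j, κ j ≫ r = (Spec (CommRingCat.of V)).fromSpecStalk (genericPoint (Spec (CommRingCat.of V))) ≫ ω j)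
  (hdist : ∀ j j' (y : Spec (CommRingCat.of V)), (τ j).base y = (τ j').base y → j = j')
  (hsm : ∀ j (y : Spec (CommRingCat.of V)), (τ j).base y ∈ pX.smoothLocus)
  (marks : ∀ (y : Spec (CommRingCat.of V)), ∀ E ∈ irreducibleComponents (pW.fiber y : Type u),
    ∃ j : Fin 3 → ι, (Function.Injective fun i => (ω (j i)).base y) ∧
      ∀ i, ∃ e ∈ E, (pW.fiberι y).base e = (ω (j i)).base y)

include hX hXr hWr hWd HX HW hτ hω hκX hκW hdist hsm marks in
theorem exists_extension : ∃ f : X ⟶ W, f ≫ pW = pX ∧ q ≫ f = r := by
  have hS := ValBase.isNormalScheme V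
  -- the closure of the generic graph
  let Z := pullback pX pW
  let jg : P ⟶ Z := pullback.lift q r (by rw [HX.w, HW.w])
  let G := jg.image
  let c : G ⟶ Z := jg.imageι
  let s : P ⟶ G := jg.toImage
  let a : G ⟶ X := c ≫ pullback.fst pX pW
  let b : G ⟶ W := c ≫ pullback.snd pX pW
  let pG : G ⟶ Spec (CommRingCat.of V) := a ≫ pX
  have hbG : b ≫ pW = pG := by
    show (c ≫ pullback.snd pX pW) ≫ pW = (c ≫ pullback.fst pX pW) ≫ pX
    rw [Category.assoc, Category.assoc, pullback.condition]
  have hsc : s ≫ c = jg := jg.toImage_imageι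
  have hsa : s ≫ a = q := by
    show s ≫ c ≫ pullback.fst pX pW = q
    rw [← Category.assoc, hsc]
    exact pullback.lift_fst _ _ _
  have hsb : s ≫ b = r := by
    show s ≫ c ≫ pullback.snd pX pW = r
    rw [← Category.assoc, hsc]
    exact pullback.lift_snd _ _ _
  have hsd : IsSchemeTheoreticallyDominant s := K263.ToImage.isSchemeTheoreticallyDominant_toImage jg
  have hqc : QuasiCompact q := Stein.quasiCompact_q pX HX
  have hqf : Flat q := Stein.flat_q pX HX
  have hsq : QuasiCompact s := by
    have : QuasiCompact (s ≫ a) := by rw [hsa]; exact hqc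
    exact MorphismProperty.of_postcomp (W := @QuasiCompact) (W' := @QuasiSeparated) s a inferInstance this
  have hpa : IsProper a := inferInstance
  have hpb : IsProper b := inferInstance
  have hpG : IsProper pG := inferInstance
  have hfl : Flat pG := by
    have : Flat (s ≫ pG) := by
      show Flat (s ≫ a ≫ pX)
      rw [← Category.assoc, hsa]
      infer_instance
    exact ValBase.flat_of_dominant V s pG
  have hqm : Mono q := Stein.mono_q pX HX
  -- connected fibres
  have hga : GeometricallyConnected a := Stein.geometricallyConnected hS pX hXr HX a s hsa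
  have hgb : GeometricallyConnected b := Stein.geometricallyConnected hS pW hWr HW b s hsb
  -- the generic fibre of the graph and its relative dimension
  have hXd : Cyc.HasRelDim pX 1 := fun y => (hX.2.2 y).1
  have hHG : IsPullback s t pG
      ((Spec (CommRingCat.of V)).fromSpecStalk (genericPoint (Spec (CommRingCat.of V)))) := by
    have hiso : IsIso (pullback.snd a q) := K263.EtaRed.isIso_snd_of_section a q s hsa
    have hl : pullback.lift s (𝟙 P) (by rw [hsa, Category.id_comp]) = inv (pullback.snd a q) := by
      rw [← cancel_mono (pullback.snd a q), IsIso.inv_hom_id]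
      exact pullback.lift_snd _ _ _
    have hs' : s = inv (pullback.snd a q) ≫ pullback.fst a q := by
      rw [← hl]; exact (pullback.lift_fst _ _ _).symm
    have H1 : IsPullback s (𝟙 P) a q := by
      have h1 : IsPullback (pullback.fst a q) (pullback.snd a q) a q := IsPullback.of_hasPullback _ _
      refine IsPullback.of_iso h1 (asIso (pullback.snd a q)) (Iso.refl _) (Iso.refl _) (Iso.refl _) ?_ ?_ ?_ ?_
      · simp [hs']
      · simp
      · simp
      · simp
    have := H1.paste_vert HX
    rwa [Category.id_comp] at this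
  have htd : Cyc.HasRelDim t 1 := K970.BCHyp.hasRelDim_of_isPullback HX hXd
  have hGd : Cyc.HasRelDim pG 1 := ValBase.hasRelDim_of_isPullback pG hHG htd
  -- the marks on the graph
  have hγ : ∀ j, ∃ γ : Spec (CommRingCat.of V) ⟶ G, γ ≫ a = τ j ∧ γ ≫ b = ω j := by
    intro j
    have hd : IsSchemeTheoreticallyDominant
        ((Spec (CommRingCat.of V)).fromSpecStalk (genericPoint (Spec (CommRingCat.of V)))) :=
      K263.GenFibre.dominant_fromSpecStalk _
    obtain ⟨γ, hγ⟩ := exists_factor c (pullback.lift (τ j) (ω j) (by rw [hτ, hω]))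
      ((Spec (CommRingCat.of V)).fromSpecStalk (genericPoint (Spec (CommRingCat.of V)))) (κ j ≫ s) (by
        rw [Category.assoc, hsc]
        apply pullback.hom_ext
        · rw [Category.assoc, Category.assoc, pullback.lift_fst, pullback.lift_fst, hκX]
        · rw [Category.assoc, Category.assoc, pullback.lift_snd, pullback.lift_snd, hκW])
    refine ⟨γ, ?_, ?_⟩
    · show γ ≫ c ≫ pullback.fst pX pW = _
      rw [← Category.assoc, hγ, pullback.lift_fst]
    · show γ ≫ c ≫ pullback.snd pX pW = _
      rw [← Category.assoc, hγ, pullback.lift_snd]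
  choose γ hγa hγb using hγ
  have hγG : ∀ j, γ j ≫ pG = 𝟙 _ := by
    intro j
    show γ j ≫ a ≫ pX = _
    rw [← Category.assoc, hγa, hτ]
  -- injectivity on the fibres
  have key : ∀ y, Function.Injective (Fib.map a pX pG rfl y).base := by
    intro y
    have hk : IsAlgClosed ((Spec (CommRingCat.of V)).residueField y) := ValBase.isAlgClosed_residueField V y
    have hay : IsProper (Fib.map a pX pG rfl y) :=
      MorphismProperty.of_isPullback (P := @IsProper) (Fib.isPullback_map a pX pG rfl y) hpa
    have hby : IsProper (Fib.map b pW pG hbG y) :=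
      MorphismProperty.of_isPullback (P := @IsProper) (Fib.isPullback_map b pW pG hbG y) hpb
    have hgay : GeometricallyConnected (Fib.map a pX pG rfl y) :=
      MorphismProperty.of_isPullback (P := @GeometricallyConnected) (Fib.isPullback_map a pX pG rfl y) hga
    have hgby : GeometricallyConnected (Fib.map b pW pG hbG y) :=
      MorphismProperty.of_isPullback (P := @GeometricallyConnected) (Fib.isPullback_map b pW pG hbG y) hgb
    have sqZ : IsPullback (pullback.fst pX pW) (pullback.snd pX pW) pX pW := IsPullback.of_hasPullback _ _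
    have hpZ : c ≫ (pullback.fst pX pW ≫ pX) = pG := (Category.assoc _ _ _).symm
    have hci : IsClosedImmersion (Fib.map c (pullback.fst pX pW ≫ pX) pG hpZ y) :=
      MorphismProperty.of_isPullback (P := @IsClosedImmersion)
        (Fib.isPullback_map c (pullback.fst pX pW ≫ pX) pG hpZ y) inferInstance
    have hpXy : IsProper (pX.fiberToSpecResidueField y) :=
      MorphismProperty.of_isPullback (P := @IsProper) (Fib.isPullback_fiber pX y) inferInstance
    have hpWy : IsProper (pW.fiberToSpecResidueField y) :=
      MorphismProperty.of_isPullback (P := @IsProper) (Fib.isPullback_fiber pW y) inferInstance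
    refine ThreeField.injective (k := (Spec (CommRingCat.of V)).residueField y)
      (Fib.isPullback_prod sqZ (pullback.fst pX pW ≫ pX) rfl pullback.condition.symm y)
      (Fib.map a pX pG rfl y) (Fib.map b pW pG hbG y)
      (Fib.map c (pullback.fst pX pW ≫ pX) pG hpZ y) ?_ ?_
      (K967.ReflUnit.dim_fiber_le hGd y)
      (K967.ReflUnit.dim_fiber_le hXd y)
      (K967.ReflUnit.dim_fiber_le hWd y) (hX.2.2 y).2
      (fun x => Stein.isPreconnected_preimage _ x) (fun w => Stein.isPreconnected_preimage _ w) ?_
    · apply (Fib.isPullback_fiber pX y).hom_ext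
      · rw [Category.assoc, Fib.map_ι, Fib.map_ι_assoc, Fib.map_ι]
      · rw [Category.assoc, Fib.map_to, Fib.map_to, Fib.map_to]
    · apply (Fib.isPullback_fiber pW y).hom_ext
      · rw [Category.assoc, Fib.map_ι, Fib.map_ι_assoc, Fib.map_ι]
      · rw [Category.assoc, Fib.map_to, Fib.map_to, Fib.map_to]
    · intro E hE
      obtain ⟨j, hj1, hj2⟩ := marks y E hE
      refine ⟨fun i => Fib.pt pG y ((γ (j i)).base y) (Fib.apply_section (hγG _) y), ?_, ?_, ?_, ?_, ?_⟩
      · intro i
        obtain ⟨e, he, hee⟩ := hj2 i
        have h1 : (Fib.map b pW pG hbG y).base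
            (Fib.pt pG y ((γ (j i)).base y) (Fib.apply_section (hγG _) y)) = e := by
          apply Fib.ι_injective pW y
          rw [Fib.ι_map_apply, Fib.ι_pt, hee, ← hγb]
          rfl
        rw [h1]
        exact he
      · intro i
        exact Fib.isClosed_pt pG (hγG _) y _
      · intro i i' hii
        apply hj1
        have h1 := congrArg (pW.fiberι y).base hii
        simp only [Function.comp] at h1
        rw [Fib.ι_map_apply, Fib.ι_map_apply, Fib.ι_pt, Fib.ι_pt] at h1
        show (ω (j i)).base y = (ω (j i')).base y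
        rw [← hγb, ← hγb]
        exact h1
      · intro i i' hii
        apply hj1
        have h1 := congrArg (pX.fiberι y).base hii
        simp only [Function.comp] at h1
        rw [Fib.ι_map_apply, Fib.ι_map_apply, Fib.ι_pt, Fib.ι_pt] at h1
        have h2 : (τ (j i)).base y = (τ (j i')).base y := by
          rw [← hγa, ← hγa]
          exact h1
        have h3 := hdist _ _ y h2
        show (ω (j i)).base y = (ω (j i')).base y
        rw [h3]
      · intro i
        apply Fib.exists_smooth
        rw [Fib.ι_map_apply, Fib.ι_pt]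
        have h1 : a.base ((γ (j i)).base y) = (τ (j i)).base y := by rw [← hγa]; rfl
        rw [h1]
        exact hsm _ _
  have hinj : Function.Injective a.base := by
    intro g g' hgg
    have h1 : pG.base g = pX.base (a.base g) := rfl
    have h2 : pG.base g' = pX.base (a.base g) := by rw [hgg]; rfl
    have h3 : Fib.pt pG (pX.base (a.base g)) g h1 = Fib.pt pG (pX.base (a.base g)) g' h2 := by
      apply key
      apply Fib.ι_injective
      rw [Fib.ι_map_apply, Fib.ι_map_apply, Fib.ι_pt, Fib.ι_pt]
      exact hgg
    have h4 := congrArg (pG.fiberι _).base h3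
    rwa [Fib.ι_pt, Fib.ι_pt] at h4
  have hlqf : LocallyQuasiFinite a := LocallyQuasiFinite.of_injective hinj
  have hfin : IsFinite a := IsFinite.of_isProper_of_locallyQuasiFinite a
  have hiso : IsIso a := Stein.isIso_of_section hS pX hXr HX a s hsa
  refine ⟨inv a ≫ b, ?_, ?_⟩
  · rw [Category.assoc, hbG]
    show inv a ≫ a ≫ pX = pX
    rw [IsIso.inv_hom_id_assoc]
  · rw [← hsa, Category.assoc, IsIso.hom_inv_id_assoc, hsb]

end K122.Extend
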