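import Groth.Agent.SSMod.K122.Gen
import Groth.Agent.SSMod.K122.Extend
import Groth.Agent.SSMod.K971.BaseChange
import Groth.Agent.Sga7.H591.GeoFib

/-!
# A nodal model dominating a given model with geometrically reduced fibres
-/

set_option autoImplicit false
universe u
open CategoryTheory CategoryTheory.Limits AlgebraicGeometry K122.Plan2

namespace K122.Marks

theorem red_of_nodal {X S : Scheme.{u}} (f : X ⟶ S) (h : Curv2.IsNodalFamily f) : K263.EtaRed.Red f := by
  rw [K263.EtaRed.red_iff]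
  intro K _ k
  have := Groth.Agent.Sga7.H591.GeoFib.geometricallyReduced f h
  exact GeometricallyReduced.geometrically_isReduced k _ _ (.of_hasPullback _ _)

theorem notMem_nonsmoothPts_iff {X S : Scheme.{u}} (f : X ⟶ S) [LocallyOfFinitePresentation f] (x : X) :
    x ∉ DualGr.nonsmoothPts f ↔ x ∈ f.smoothLocus := by
  rw [Scheme.Hom.mem_smoothLocus]
  exact not_not

theorem isClosed_nonsmoothPts {X S : Scheme.{u}} (f : X ⟶ S) [LocallyOfFinitePresentation f] :
    IsClosed (DualGr.nonsmoothPts f) := by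
  have : DualGr.nonsmoothPts f = (f.smoothLocus : Set X)ᶜ := by
    ext x
    rw [Set.mem_compl_iff, ← not_iff_not, not_not]
    exact notMem_nonsmoothPts_iff f x
  rw [this]
  exact f.smoothLocus.isOpen.isClosed_compl

section

variable {V : Type u} [CommRing V] [IsDomain V] {W P : Scheme.{u}} {pW : W ⟶ Spec (CommRingCat.of V)} {r : P ⟶ W}
  {t : P ⟶ Spec (CommRingCat.of (FractionRing V))} (HW : IsPullback r t pW (iK V))

/-- The `K`-point of the generic fibre defined by a section. -/
noncomputable def kp (ω : Spec (CommRingCat.of V) ⟶ W) (h : ω ≫ pW = 𝟙 _) :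
    Spec (CommRingCat.of (FractionRing V)) ⟶ P :=
  HW.lift (iK V ≫ ω) (𝟙 _) (by rw [Category.assoc, h, Category.comp_id, Category.id_comp])

theorem kp_r (ω : Spec (CommRingCat.of V) ⟶ W) (h : ω ≫ pW = 𝟙 _) : kp HW ω h ≫ r = iK V ≫ ω :=
  HW.lift_fst _ _ _

theorem kp_t (ω : Spec (CommRingCat.of V) ⟶ W) (h : ω ≫ pW = 𝟙 _) : kp HW ω h ≫ t = 𝟙 _ :=
  HW.lift_snd _ _ _

theorem iK_apply (x : Spec (CommRingCat.of (FractionRing V))) :
    (iK V).base x = genericPoint (Spec (CommRingCat.of V)) := by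
  have : (iK V).base x ∈ Set.range (iK V).base := ⟨x, rfl⟩
  rw [Gen.range_iK] at this
  exact this

theorem r_kp_apply (ω : Spec (CommRingCat.of V) ⟶ W) (h : ω ≫ pW = 𝟙 _)
    (x : Spec (CommRingCat.of (FractionRing V))) :
    r.base ((kp HW ω h).base x) = ω.base (genericPoint (Spec (CommRingCat.of V))) := by
  have h1 := congrArg (fun k => k.base x) (kp_r HW ω h)
  have h2 : r.base ((kp HW ω h).base x) = ω.base ((iK V).base x) := by simpa using h1
  rw [h2, iK_apply]

theorem kp_notMem [LocallyOfFinitePresentation pW] (ω : Spec (CommRingCat.of V) ⟶ W) (h : ω ≫ pW = 𝟙 _)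
    (y : Spec (CommRingCat.of V)) (hy : ω.base y ∉ DualGr.nonsmoothPts pW)
    (x : Spec (CommRingCat.of (FractionRing V))) : (kp HW ω h).base x ∉ DualGr.nonsmoothPts t := by
  intro hx
  apply hy
  have h1 : r.base ((kp HW ω h).base x) ∈ DualGr.nonsmoothPts pW :=
    K971.SSBaseChange.nonsmoothPts_of_isPullback HW hx
  rw [r_kp_apply] at h1
  have h2 : ω.base (genericPoint (Spec (CommRingCat.of V))) ⤳ ω.base y :=
    (genericPoint_specializes y).map ω.continuous
  exact h2.mem_closed (isClosed_nonsmoothPts pW) h1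

variable [Finite (PrimeSpectrum V)]

include HW in
theorem isOpenImmersion_r : IsOpenImmersion r := by
  have := K971.SmoothEta.isOpenImmersion_fractionRing V
  exact MorphismProperty.of_isPullback (P := @IsOpenImmersion) HW.flip (inferInstanceAs (IsOpenImmersion (iK V)))

include HW in
theorem range_r : Set.range r.base = pW.base ⁻¹' {genericPoint (Spec (CommRingCat.of V))} := by
  rw [← Gen.range_iK]
  exact K971.SSRestrict.range_of_isPullback HW

include HW in
/-- The components of the generic fibre. -/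
theorem exists_component (E : Set P) (hE : E ∈ irreducibleComponents (P : Type u)) :
    ∃ E' ∈ irreducibleComponents (pW.fiber (genericPoint (Spec (CommRingCat.of V))) : Type u),
      ∀ e ∈ E', ∀ p : P, r.base p = (pW.fiberι _).base e → p ∈ E := by
  have ho := isOpenImmersion_r HW
  let H : P ≃ₜ pW.fiber (genericPoint (Spec (CommRingCat.of V))) :=
    (r.isOpenEmbedding.isEmbedding.toHomeomorph.trans (Homeomorph.setCongr (range_r HW))).trans
      (pW.fiberHomeo _).symm
  have hH : ∀ p, (pW.fiberι _).base (H p) = r.base p := by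
    intro p
    exact pW.fiberι_fiberHomeo_symm _ _
  refine ⟨H.symm ⁻¹' E, preimage_mem_irreducibleComponents hE H.symm.isOpenEmbedding ?_, ?_⟩
  · rw [H.symm.surjective.range_eq, Set.inter_univ]
    exact hE.1.nonempty
  · intro e he p hp
    have h1 : H p = e := by
      apply Fib.ι_injective pW _
      rw [hH, hp]
    have h2 : H.symm e ∈ E := he
    rw [← h1, H.symm_apply_apply] at h2
    exact h2

end

theorem exists_dominating (hSec : Sections.{u}) (hMod : StableModel.{u}) (V : Type u) [CommRing V] [IsDomain V]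
    [ValuationRing V] [Finite (PrimeSpectrum V)] [IsAlgClosed (FractionRing V)] {W P : Scheme.{u}}
    (pW : W ⟶ Spec (CommRingCat.of V)) [IsProper pW] [Flat pW] [LocallyOfFinitePresentation pW]
    (hred : K263.EtaRed.Red pW) {r : P ⟶ W} {t : P ⟶ Spec (CommRingCat.of (FractionRing V))}
    (HW : IsPullback r t pW (iK V)) (hn : Curv2.IsNodalFamily t)
    (Δ : Set (Spec (CommRingCat.of (FractionRing V)) ⟶ P)) (hΔ : Δ.Finite) (hΔt : ∀ δ ∈ Δ, δ ≫ t = 𝟙 _)
    (hΔs : ∀ δ ∈ Δ, ∀ x, δ.base x ∉ DualGr.nonsmoothPts t) :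
    ∃ (X : Scheme.{u}) (pX : X ⟶ Spec (CommRingCat.of V)) (q : P ⟶ X) (f : X ⟶ W)
      (τ : Δ → (Spec (CommRingCat.of V) ⟶ X)), IsProper pX ∧ Curv2.IsNodalFamily pX ∧
      IsPullback q t pX (iK V) ∧ f ≫ pW = pX ∧ q ≫ f = r ∧ (∀ δ, τ δ ≫ pX = 𝟙 _) ∧
      (∀ δ : Δ, δ.1 ≫ q = iK V ≫ τ δ) ∧ (∀ δ δ' y, (τ δ).base y = (τ δ').base y → δ = δ') ∧
      ∀ δ y, (τ δ).base y ∉ DualGr.nonsmoothPts pX := by
  classical
  have htp : IsProper t := MorphismProperty.of_isPullback (P := @IsProper) HW inferInstance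
  have hWd : Cyc.HasRelDim pW 1 := Gen.hasRelDim_of_isPullback HW (fun y => (hn.2.2 y).1)
  -- the chosen sections
  have hch : ∀ (a : Σ y : Spec (CommRingCat.of V), irreducibleComponents (pW.fiber y : Type u)),
      ∃ ω : Fin 3 → (Spec (CommRingCat.of V) ⟶ W), (∀ i, ω i ≫ pW = 𝟙 _) ∧
      (Function.Injective fun i => (ω i).base a.1) ∧
      ∀ i, (∃ e ∈ a.2.1, (pW.fiberι a.1).base e = (ω i).base a.1) ∧ (ω i).base a.1 ∉ DualGr.nonsmoothPts pW :=
    fun a => hSec V pW hWd hred a.1 a.2.1 a.2.2 3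
  choose ω₀ hω₀ hinj₀ hω₁ using hch
  have hfinV : Finite (Spec (CommRingCat.of V)) := inferInstanceAs (Finite (PrimeSpectrum V))
  have hfinA : Finite (Σ y : Spec (CommRingCat.of V), irreducibleComponents (pW.fiber y : Type u)) := by
    have : ∀ y : Spec (CommRingCat.of V), Finite (irreducibleComponents (pW.fiber y : Type u)) := by
      intro y
      have h1 : IsLocallyNoetherian (pW.fiber y) := by
        have : LocallyOfFiniteType (pW.fiberToSpecResidueField y) :=
          MorphismProperty.of_isPullback (P := @LocallyOfFiniteType) (Fib.isPullback_fiber pW y) inferInstance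
        exact LocallyOfFiniteType.isLocallyNoetherian (pW.fiberToSpecResidueField y)
      have h2 : IsNoetherian (pW.fiber y) := { }
      exact TopologicalSpace.NoetherianSpace.finite_irreducibleComponents
    infer_instance
  let A := Σ y : Spec (CommRingCat.of V), irreducibleComponents (pW.fiber y : Type u)
  let kk : A × Fin 3 → (Spec (CommRingCat.of (FractionRing V)) ⟶ P) := fun z => kp HW (ω₀ z.1 z.2) (hω₀ z.1 z.2)
  have hfin : (Δ ∪ Set.range kk).Finite := hΔ.union (Set.finite_range kk)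
  obtain ⟨n, κ, hκinj, hκr⟩ := hfin.fin_param
  have hκmem : ∀ i, κ i ∈ Δ ∪ Set.range kk := by
    intro i
    rw [← hκr]
    exact ⟨i, rfl⟩
  have hκt : ∀ i, κ i ≫ t = 𝟙 _ := by
    intro i
    rcases hκmem i with h | ⟨z, hz⟩
    · exact hΔt _ h
    · rw [← hz]; exact kp_t HW _ _
  have hκs : ∀ i x, (κ i).base x ∉ DualGr.nonsmoothPts t := by
    intro i x
    rcases hκmem i with h | ⟨z, hz⟩
    · exact hΔs _ h x
    · rw [← hz]
      exact kp_notMem HW _ _ z.1.1 (hω₁ z.1 z.2).2 x
  -- indices of the chosen sections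
  have hidx : ∀ (a : A) (i : Fin 3), ∃ j, κ j = kk (a, i) := by
    intro a i
    have : kk (a, i) ∈ Set.range κ := by
      rw [hκr]
      exact Or.inr ⟨(a, i), rfl⟩
    exact this
  choose jx hjx using hidx
  have hro := isOpenImmersion_r HW
  have h3 : ∀ E ∈ irreducibleComponents (P : Type u), ∃ j : Fin 3 → Fin n, Function.Injective j ∧
      ∀ i x, (κ (j i)).base x ∈ E := by
    intro E hE
    obtain ⟨E', hE', hEE'⟩ := exists_component HW E hE
    let a : A := ⟨genericPoint (Spec (CommRingCat.of V)), ⟨E', hE'⟩⟩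
    refine ⟨jx a, ?_, ?_⟩
    · intro i i' hii
      apply hinj₀ a
      have h1 : kk (a, i) = kk (a, i') := by rw [← hjx, ← hjx, hii]
      let x : Spec (CommRingCat.of (FractionRing V)) := IsLocalRing.closedPoint (FractionRing V)
      have h2 := r_kp_apply HW (ω₀ a i) (hω₀ a i) x
      have h3 := r_kp_apply HW (ω₀ a i') (hω₀ a i') x
      show (ω₀ a i).base _ = (ω₀ a i').base _
      rw [← h2, ← h3]
      show r.base ((kk (a, i)).base x) = r.base ((kk (a, i')).base x)
      rw [h1]
    · intro i x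
      obtain ⟨e, he, hee⟩ := (hω₁ a i).1
      apply hEE' e he
      rw [hjx, hee]
      exact r_kp_apply HW (ω₀ a i) (hω₀ a i) x
  obtain ⟨X, pX, q, τ, hpX, hXn, HX, hτ, hτq, hτd, hτs⟩ := hMod V t hn n κ hκt hκinj hκs h3
  have hXfl : Flat pX := hXn.1
  have hXlfp : LocallyOfFinitePresentation pX := hXn.2.1
  -- the sections of `W`
  have hωe : ∀ j, ∃ l : Spec (CommRingCat.of V) ⟶ W, l ≫ pW = 𝟙 _ ∧ iK V ≫ l = κ j ≫ r := fun j =>
    Gen.exists_section V pW (κ j ≫ r) (by rw [Category.assoc, HW.w, ← Category.assoc, hκt, Category.id_comp])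
  choose ω hω hωκ using hωe
  have hωj : ∀ a i, ω (jx a i) = ω₀ a i := by
    intro a i
    apply Gen.section_ext V pW (hω _) (hω₀ a i)
    rw [hωκ, hjx]
    exact kp_r HW _ _
  obtain ⟨e, he⟩ := Gen.exists_gen V
  obtain ⟨f, hf1, hf2⟩ := Extend.exists_extension V pX pW hXn (red_of_nodal pX hXn) hred hWd
    (Gen.isPullback_gen HX e he) (Gen.isPullback_gen HW e he) τ hτ ω hω (fun j => e.hom ≫ κ j)
    (fun j => by rw [Category.assoc, hτq, ← he, Category.assoc])
    (fun j => by rw [Category.assoc, ← hωκ, ← he, Category.assoc]) hτd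
    (fun j y => (notMem_nonsmoothPts_iff pX _).mp (hτs j y)) (by
      intro y E hE
      refine ⟨jx ⟨y, E, hE⟩, ?_, ?_⟩
      · have := hinj₀ ⟨y, E, hE⟩
        intro i i' hii
        apply this
        simp only [hωj] at hii
        exact hii
      · intro i
        obtain ⟨e, he, hee⟩ := (hω₁ ⟨y, E, hE⟩ i).1
        exact ⟨e, he, by rw [hωj]; exact hee⟩)
  -- the marks of `Δ`
  have hΔi : ∀ δ : Δ, ∃ j, κ j = δ.1 := by
    intro δ
    have : δ.1 ∈ Set.range κ := by rw [hκr]; exact Or.inl δ.2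
    exact this
  choose jd hjd using hΔi
  refine ⟨X, pX, q, f, fun δ => τ (jd δ), hpX, hXn, HX, hf1, hf2, fun δ => hτ _, fun δ => ?_, ?_,
    fun δ y => hτs _ y⟩
  · rw [← hjd δ]; exact hτq _
  · intro δ δ' y h
    have h1 := hτd _ _ y h
    apply Subtype.ext
    rw [← hjd, ← hjd, h1]

end K122.Marks
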