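import Groth.Agent.SSMod.K122.Plan
import Groth.Agent.FlatMor.K263.EtaRed

/-!
# The pieces of `LocSS` as Props

`S = Spec V`, `iK V : Spec K ⟶ Spec V`, `V` a valuation ring of finite height with algebraically closed fraction
field `K`.

* `Compact` (L1): a nodal curve `C` open in a proper `Y` over an algebraically closed field: partial normalisation at
  infinity (`= j.normalization`), a proper nodal curve.
* `NormalModel` (L2): `P` finite over the generic fibre of `B`, geometrically reduced: a finite `B`-scheme `W`, flat, lfp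
  with geometrically reduced fibres over `V`, with generic fibre `P` (ZMT, schematic closure, S14900).
* `Sections` (L3): many sections through distinct smooth points of a given component of a given fibre.
* `StableModel` (L4): a proper nodal curve over `K` with enough marks extends to a proper nodal curve over `V` with
  disjoint sections in the smooth locus (`Valex` on each connected component).
-/

set_option autoImplicit false
universe u
open CategoryTheory CategoryTheory.Limits AlgebraicGeometry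

namespace K122.Plan2

/-- The generic point of `Spec V`. -/
noncomputable abbrev iK (V : Type u) [CommRing V] [IsDomain V] :
    Spec (CommRingCat.of (FractionRing V)) ⟶ Spec (CommRingCat.of V) :=
  Spec.map (CommRingCat.ofHom (algebraMap V (FractionRing V)))

/-- (L1) -/
def Compact : Prop := ∀ (k : Type u) [Field k] [IsAlgClosed k] {C Y : Scheme.{u}}
    (pC : C ⟶ Spec (CommRingCat.of k)) (pY : Y ⟶ Spec (CommRingCat.of k)) [IsProper pY] [QuasiCompact pC]
    (_ : Curv2.IsNodalFamily pC) (j : C ⟶ Y) [IsOpenImmersion j] (_ : j ≫ pY = pC),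
    ∃ (X : Scheme.{u}) (π : X ⟶ Y) (i : C ⟶ X), IsFinite π ∧ Curv2.IsNodalFamily (π ≫ pY) ∧
      IsOpenImmersion i ∧ IsPullback i (𝟙 C) π j

/-- (L2) -/
def NormalModel : Prop := ∀ (V : Type u) [CommRing V] [IsDomain V] [ValuationRing V] [Finite (PrimeSpectrum V)]
    [IsAlgClosed (FractionRing V)] {B P : Scheme.{u}} (pB : B ⟶ Spec (CommRingCat.of V))
    [IsSeparated pB] [LocallyOfFiniteType pB] [QuasiCompact pB]
    (t : P ⟶ Spec (CommRingCat.of (FractionRing V))) (β : P ⟶ B) (w : β ≫ pB = t ≫ iK V)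
    (_ : IsFinite (pullback.lift β t w : P ⟶ pullback pB (iK V))) (_ : K263.EtaRed.Red t),
    ∃ (W : Scheme.{u}) (π : W ⟶ B) (r : P ⟶ W), IsFinite π ∧ r ≫ π = β ∧
      IsPullback r t (π ≫ pB) (iK V) ∧ Flat (π ≫ pB) ∧ LocallyOfFinitePresentation (π ≫ pB) ∧
      K263.EtaRed.Red (π ≫ pB)

/-- (L3) -/
def Sections : Prop := ∀ (V : Type u) [CommRing V] [IsDomain V] [ValuationRing V] [Finite (PrimeSpectrum V)]
    [IsAlgClosed (FractionRing V)] {W : Scheme.{u}} (pW : W ⟶ Spec (CommRingCat.of V)) [IsProper pW] [Flat pW]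
    [LocallyOfFinitePresentation pW] (_ : Cyc.HasRelDim pW 1) (_ : K263.EtaRed.Red pW)
    (y : Spec (CommRingCat.of V)), ∀ E ∈ irreducibleComponents (pW.fiber y : Type u), ∀ n : ℕ,
    ∃ ω : Fin n → (Spec (CommRingCat.of V) ⟶ W), (∀ i, ω i ≫ pW = 𝟙 _) ∧
      (Function.Injective fun i => (ω i).base y) ∧
      ∀ i, (∃ e ∈ E, (pW.fiberι y).base e = (ω i).base y) ∧ (ω i).base y ∉ DualGr.nonsmoothPts pW

/-- (L4) -/
def StableModel : Prop := ∀ (V : Type u) [CommRing V] [IsDomain V] [ValuationRing V] [Finite (PrimeSpectrum V)]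
    [IsAlgClosed (FractionRing V)] {P : Scheme.{u}} (t : P ⟶ Spec (CommRingCat.of (FractionRing V))) [IsProper t]
    (_ : Curv2.IsNodalFamily t) (n : ℕ) (κ : Fin n → (Spec (CommRingCat.of (FractionRing V)) ⟶ P))
    (_ : ∀ i, κ i ≫ t = 𝟙 _) (_ : Function.Injective κ)
    (_ : ∀ i x, (κ i).base x ∉ DualGr.nonsmoothPts t)
    (_ : ∀ E ∈ irreducibleComponents (P : Type u), ∃ j : Fin 3 → Fin n, Function.Injective j ∧
      ∀ i x, (κ (j i)).base x ∈ E),
    ∃ (X : Scheme.{u}) (pX : X ⟶ Spec (CommRingCat.of V)) (q : P ⟶ X) (τ : Fin n → (Spec (CommRingCat.of V) ⟶ X)),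
      IsProper pX ∧ Curv2.IsNodalFamily pX ∧ IsPullback q t pX (iK V) ∧ (∀ i, τ i ≫ pX = 𝟙 _) ∧
      (∀ i, κ i ≫ q = iK V ≫ τ i) ∧ (∀ i j y, (τ i).base y = (τ j).base y → i = j) ∧
      ∀ i y, (τ i).base y ∉ DualGr.nonsmoothPts pX

end K122.Plan2
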