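import Groth.Agent.SSMod.K122.StabAlg
import Groth.Agent.SSMod.K122.Assemble
import Groth.Agent.SSMod.K46.Compact
import Groth.Agent.SSMod.K563.NormModel
import Groth.Agent.SSMod.K777.Sect
import Groth.Agent.SSMod.K835.StabModel
import Groth.Agent.SSMod.K640.Valex
import Groth.Agent.SSMod.K62.Frob
import Groth.Agent.SSMod.K755.ContrLoc
import Groth.Agent.S15274

/-!
# S15281 from the properness of `Mbar` (S16726)
-/

set_option autoImplicit false
universe u
open CategoryTheory CategoryTheory.Limits AlgebraicGeometry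

namespace K122.Final

theorem locSS (H : K640.Valex.MbarProper.{u}) : K122.Plan.LocSS.{u} :=
  Assemble.locSS K46.Compact.main K563.NormModel.main K777.Sect.main
    (K835.StabModel.main (K640.Valex.valex H))

theorem uniq : K971.SSUses.Uniq.{u} := @Groth.Agent.S15274.result

theorem stabAlg (H : K640.Valex.MbarProper.{u}) : K122.Plan.StabAlg.{u} :=
  StabAlg.stabAlg (locSS H) K755.ContrLoc.main uniq

theorem main (H : K640.Valex.MbarProper.{u})
    (R : Type u) [CommRing R] [IsDomain R] [ValuationRing R] [Finite (PrimeSpectrum R)]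
    [IsSepClosed (FractionRing R)]
    {C D : Scheme.{u}} (φ : C ⟶ Spec (CommRingCat.of R)) (i : D ⟶ C)
    (hC : SSMod.IsMPCurve φ i) [IsReduced C] [IsReduced D]
    (hη : SSMod.IsSemistable (pullback.snd φ ((Spec (CommRingCat.of R)).fromSpecStalk (genericPoint (Spec (CommRingCat.of R)))))
      (CInt.baseChangeOver i φ ((Spec (CommRingCat.of R)).fromSpecStalk (genericPoint (Spec (CommRingCat.of R)))))) :
    ∃ (Cst Dst : Scheme.{u}) (ist : Dst ⟶ Cst) (fC : Cst ⟶ C) (fD : Dst ⟶ D),
      SSMod.IsStableModification φ i ist fC fD ∧ SSMod.IsEtaIso φ fC ∧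
        SSMod.IsEtaIso (i ≫ φ) fD :=
  K62.Frob.frob (stabAlg H) R φ i hC hη

end K122.Final
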