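import Groth.Agent.SSMod.K122.GlueLoc
import Groth.Agent.FBlow.K788.GlueS
import Groth.Agent.FlatMor.K263.EtaUniq
import Groth.Agent.SSMod.K755.Plan
import Groth.Agent.S3842

/-!
# Gluing of stable modifications which are isomorphisms on generic fibres
-/

set_option autoImplicit false
universe u
open CategoryTheory CategoryTheory.Limits AlgebraicGeometry TopologicalSpace K122.GlueLoc

namespace K122.Glue

variable {S C D : Scheme.{u}} [IsIntegral S]

theorem isMPCurve_opens {φ : C ⟶ S} {i : D ⟶ C} (h : SSMod.IsMPCurve φ i) (W : C.Opens)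
    (hc : QuasiCompact (W.ι ≫ φ)) (hs : QuasiSeparated (W.ι ≫ φ)) : SSMod.IsMPCurve (W.ι ≫ φ) (i ∣_ W) :=
  K971.SSRestrict.isMPCurve_restrict h (isPullback_morphismRestrict i W).flip hc hs

theorem isPullback_homOfLE (i : D ⟶ C) {W W' : C.Opens} (h : W ≤ W')
    (h' : i ⁻¹ᵁ W ≤ i ⁻¹ᵁ W') : IsPullback (D.homOfLE h') (i ∣_ W) (i ∣_ W') (C.homOfLE h) := by
  have sq := (isPullback_morphismRestrict i W).flip
  have sq' := (isPullback_morphismRestrict i W').flip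
  refine IsPullback.of_right (h₁₂ := (i ⁻¹ᵁ W').ι) (h₂₂ := W'.ι) (v₁₃ := i) ?_ ?_ sq'
  · rw [D.homOfLE_ι, C.homOfLE_ι]
    exact sq
  · rw [← cancel_mono W'.ι, Category.assoc, Category.assoc, C.homOfLE_ι, ← sq'.w, ← Category.assoc,
      D.homOfLE_ι, sq.w]

/-- Uniqueness of morphisms to a stable modification. -/
theorem sol_ext {φ : C ⟶ S} {i : D ⟶ C} {W : C.Opens} (s : Sol φ i W) {Y : Scheme.{u}} (u v : Y ⟶ s.CW)
    (hY : Flat (u ≫ s.f ≫ W.ι ≫ φ)) (h : u ≫ s.f = v ≫ s.f) : u = v := by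
  have hp : IsProper s.f := s.st.1.1.2.2.1.1
  have he : IsIso (pullback.snd s.f (pullback.fst (W.ι ≫ φ) (S.fromSpecStalk (genericPoint S)))) := s.eC
  exact K263.EtaUniq.hom_ext (W.ι ≫ φ) s.f inferInstance (𝟙 S) rfl (u ≫ s.f ≫ W.ι ≫ φ) (u ≫ s.f)
    (by rw [Category.comp_id, Category.assoc]) u v rfl h.symm

theorem sol_ext_D {φ : C ⟶ S} {i : D ⟶ C} {W : C.Opens} (s : Sol φ i W) {Y : Scheme.{u}} (u v : Y ⟶ s.DW)
    (hY : Flat (u ≫ s.d ≫ i ∣_ W ≫ W.ι ≫ φ)) (h : u ≫ s.d = v ≫ s.d) : u = v := by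
  have hp : IsProper s.d := s.st.1.1.2.2.2.1
  have he : IsIso (pullback.snd s.d (pullback.fst (i ∣_ W ≫ W.ι ≫ φ) (S.fromSpecStalk (genericPoint S)))) :=
    s.eD
  exact K263.EtaUniq.hom_ext (i ∣_ W ≫ W.ι ≫ φ) s.d inferInstance (𝟙 S) rfl (u ≫ s.d ≫ i ∣_ W ≫ W.ι ≫ φ)
    (u ≫ s.d) (by rw [Category.comp_id, Category.assoc]) u v rfl h.symm

/-- Restriction. -/
theorem exists_restrict {φ : C ⟶ S} {i : D ⟶ C} (hC : SSMod.IsMPCurve φ i) {W W' : C.Opens} (h : W ≤ W')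
    (hc : QuasiCompact (W.ι ≫ φ)) (hs : QuasiSeparated (W.ι ≫ φ))
    (hc' : QuasiCompact (W'.ι ≫ φ)) (hs' : QuasiSeparated (W'.ι ≫ φ)) (s : Sol φ i W') :
    ∃ (t : Sol φ i W) (m : t.CW ⟶ s.CW) (mD : t.DW ⟶ s.DW), IsPullback m t.f s.f (C.homOfLE h) ∧
      IsPullback mD t.d s.d (D.homOfLE (i.preimage_mono h)) := by
  have e1 : C.homOfLE h ≫ W'.ι ≫ φ = W.ι ≫ φ := by rw [← Category.assoc, C.homOfLE_ι]
  have sq := isPullback_homOfLE i h (i.preimage_mono h)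
  have sqC := IsPullback.of_hasPullback s.f (C.homOfLE h)
  have sqD := IsPullback.of_hasPullback s.d (D.homOfLE (i.preimage_mono h))
  have e2 : D.homOfLE (i.preimage_mono h) ≫ i ∣_ W' ≫ W'.ι ≫ φ = i ∣_ W ≫ W.ι ≫ φ := by
    rw [← Category.assoc, sq.w, Category.assoc, e1]
  obtain ⟨iV, hV⟩ := K971.SSRestrict.exists_restrict_isStableModification
    (isMPCurve_opens hC W' hc' hs') s.st (j := C.homOfLE h) (by rw [e1]; exact hc) (by rw [e1]; exact hs)
    sq sqC sqD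
  have hη := K971.SSBasic.isEtaIso_of_isPullback s.eC sqC
  have hηD := K971.SSBasic.isEtaIso_of_isPullback s.eD sqD
  rw [e1] at hV hη
  rw [e2] at hηD
  exact ⟨⟨_, _, iV, _, _, hV, hη, hηD⟩, _, _, sqC, sqD⟩

/-- Transition maps. -/
theorem exists_trans (hU : K971.SSUses.Uniq.{u}) [CompactSpace S] [QuasiSeparatedSpace S]
    (hS : Pi1.IsNormalScheme S) {φ : C ⟶ S} {i : D ⟶ C} (hC : SSMod.IsMPCurve φ i) {W W' : C.Opens} (h : W ≤ W')
    (hc : QuasiCompact (W.ι ≫ φ)) (hs : QuasiSeparated (W.ι ≫ φ))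
    (hc' : QuasiCompact (W'.ι ≫ φ)) (hs' : QuasiSeparated (W'.ι ≫ φ)) (t : Sol φ i W) (s : Sol φ i W') :
    ∃ (m : t.CW ⟶ s.CW) (mD : t.DW ⟶ s.DW), IsPullback m t.f s.f (C.homOfLE h) ∧
      IsPullback mD t.d s.d (D.homOfLE (i.preimage_mono h)) ∧ mD ≫ s.iW = t.iW ≫ m := by
  obtain ⟨r, m, mD, sq, sqD⟩ := exists_restrict hC h hc hs hc' hs' s
  obtain ⟨eC, eD, hC1, hD1, ⟨h1, h2, h3⟩, -⟩ := hU hS (W.ι ≫ φ) (i ∣_ W) (isMPCurve_opens hC W hc hs)
    t.iW t.f t.d t.st t.eC t.eD r.iW r.f r.d r.st r.eC r.eD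
  have k1 : IsPullback eC t.f r.f (𝟙 _) := IsPullback.of_horiz_isIso ⟨by rw [h2, Category.comp_id]⟩
  have k2 : IsPullback eD t.d r.d (𝟙 _) := IsPullback.of_horiz_isIso ⟨by rw [h3, Category.comp_id]⟩
  have k3 := k1.paste_horiz sq
  have k4 := k2.paste_horiz sqD
  rw [Category.id_comp] at k3 k4
  refine ⟨eC ≫ m, eD ≫ mD, k3, k4, ?_⟩
  have e1 : C.homOfLE h ≫ W'.ι ≫ φ = W.ι ≫ φ := by rw [← Category.assoc, C.homOfLE_ι]
  have sqi := isPullback_homOfLE i h (i.preimage_mono h)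
  have e2 : ((eD ≫ mD) ≫ s.iW) ≫ s.f = t.iW ≫ t.f ≫ C.homOfLE h := by
    rw [Category.assoc, s.st.1.1.1, ← Category.assoc, k4.w, Category.assoc, sqi.w, ← Category.assoc,
      ← t.st.1.1.1, Category.assoc]
  refine sol_ext s _ _ ?_ ?_
  · have e3 : ((eD ≫ mD) ≫ s.iW) ≫ s.f ≫ W'.ι ≫ φ = t.iW ≫ t.f ≫ W.ι ≫ φ := by
      rw [← Category.assoc, e2, Category.assoc, Category.assoc, e1]
    rw [e3]
    exact t.st.1.1.2.1.2.2.2.2.2.2.1
  · rw [e2, Category.assoc, k3.w]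

theorem sol_trans_id {φ : C ⟶ S} {i : D ⟶ C} {W : C.Opens} (s : Sol φ i W) (m : s.CW ⟶ s.CW)
    (hm : m ≫ s.f = s.f ≫ C.homOfLE le_rfl) : m = 𝟙 _ := by
  have e : s.f ≫ C.homOfLE (le_refl W) = s.f := by
    rw [K788.GlueS.homOfLE_self', Category.comp_id]
  rw [e] at hm
  refine sol_ext s _ _ ?_ (by rw [hm, Category.id_comp])
  rw [← Category.assoc, hm]
  exact s.st.1.1.2.1.1

theorem sol_trans_id_D {φ : C ⟶ S} {i : D ⟶ C} {W : C.Opens} (s : Sol φ i W) (m : s.DW ⟶ s.DW)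
    (hm : m ≫ s.d = s.d ≫ D.homOfLE le_rfl) : m = 𝟙 _ := by
  have e : s.d ≫ D.homOfLE (le_refl (i ⁻¹ᵁ W)) = s.d := by
    rw [K788.GlueS.homOfLE_self', Category.comp_id]
  rw [e] at hm
  refine sol_ext_D s _ _ ?_ (by rw [hm, Category.id_comp])
  have h1 : Flat (s.iW ≫ s.f ≫ W.ι ≫ φ) := s.st.1.1.2.1.2.2.2.2.2.2.1
  have h2 : s.iW ≫ s.f = s.d ≫ i ∣_ W := s.st.1.1.1
  rw [← Category.assoc, h2, Category.assoc] at h1
  rw [← Category.assoc, hm]
  exact h1

/-- A modification is surjective. -/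
theorem surjective_of_isModification {X Y : Scheme.{u}} {f : X ⟶ Y} (h : SSMod.IsModification f) :
    Surjective f := by
  obtain ⟨hp, U, hU, _, hi⟩ := h
  refine ⟨?_⟩
  have h1 : (U : Set Y) ⊆ Set.range f := by
    intro y hy
    have hs : Surjective (f ∣_ U) := inferInstance
    obtain ⟨x, hx⟩ := hs.surj ⟨y, hy⟩
    refine ⟨(f ⁻¹ᵁ U).ι x, ?_⟩
    rw [← Scheme.Hom.comp_apply, ← morphismRestrict_ι, Scheme.Hom.comp_apply, hx]
    rfl
  have h2 : Dense (Set.range f) := (Groth.Agent.S3842.dense_of_isSchematicallyDense U hU).mono h1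
  have h3 : IsClosed (Set.range f) := f.isClosedMap.isClosed_range
  rw [← Set.range_eq_univ, ← h3.closure_eq, h2.closure_eq]

theorem main : K755.SSPlan.Glue.{u} := by
  intro hU S C D _ _ _ hS φ i hC H
  obtain ⟨h1, h2, h3, h4, -⟩ := id hC
  -- affine opens are quasi-compact and quasi-separated over the base
  have hqc : ∀ W : C.Opens, IsAffineOpen W → QuasiCompact (W.ι ≫ φ) := by
    intro W hW
    have : IsAffine W := hW
    infer_instance
  have hqs : ∀ W : C.Opens, IsAffineOpen W → QuasiSeparated (W.ι ≫ φ) := by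
    intro W hW
    have : IsAffine W := hW
    infer_instance
  -- good opens
  let I : Type u := {W : C.Opens // IsAffineOpen W ∧ Nonempty (Sol φ i W)}
  let U : I → C.Opens := fun W => W.1
  let UD : I → D.Opens := fun W => i ⁻¹ᵁ W.1
  have hsmall : ∀ (V W : C.Opens), IsAffineOpen W → W ≤ V → Nonempty (Sol φ i V) →
      Nonempty (Sol φ i W) := by
    intro V W hW hle ⟨s⟩
    have hcV : QuasiCompact (V.ι ≫ φ) := by
      have hp : QuasiCompact (s.f ≫ V.ι ≫ φ) := s.st.1.1.2.1.2.2.1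
      have h6 : CompactSpace s.CW := QuasiCompact.compactSpace_of_compactSpace (s.f ≫ V.ι ≫ φ)
      have h7 := surjective_of_isModification s.st.1.1.2.2.1
      have h8 : CompactSpace V := by
        rw [← isCompact_univ_iff, ← Set.range_eq_univ.2 h7.surj]
        exact isCompact_range s.f.continuous
      infer_instance
    have hqV : QuasiSeparated (V.ι ≫ φ) := inferInstance
    obtain ⟨t, -⟩ := exists_restrict hC hle (hqc W hW) (hqs W hW) hcV hqV s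
    exact ⟨t⟩
  have hexaff : ∀ (V : C.Opens) (x : C), x ∈ V → ∃ W : C.Opens, IsAffineOpen W ∧ x ∈ W ∧ W ≤ V := by
    intro V x hx
    obtain ⟨W, hW, hxW, hWV⟩ := Opens.isBasis_iff_nbhd.mp C.isBasis_affineOpens hx
    exact ⟨W, hW, hxW, hWV⟩
  have hdir : K788.GlueS.DirCov U := by
    refine ⟨fun {i j} h => h, ?_, ?_⟩
    · intro x
      obtain ⟨V, hxV, CV, DV, iV, fV, fDV, a1, a2, a3⟩ := H x
      obtain ⟨W, hW, hxW, hWV⟩ := hexaff V x hxV
      exact ⟨⟨W, hW, hsmall V W hW hWV ⟨⟨CV, DV, iV, fV, fDV, a1, a2, a3⟩⟩⟩, hxW⟩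
    · intro W₁ W₂ x hx1 hx2
      obtain ⟨W, hW, hxW, hWV⟩ := hexaff (W₁.1 ⊓ W₂.1) x ⟨hx1, hx2⟩
      exact ⟨⟨W, hW, hsmall W₁.1 W hW (hWV.trans inf_le_left) W₁.2.2⟩, hWV.trans inf_le_left,
        hWV.trans inf_le_right, hxW⟩
  have hdirD : K788.GlueS.DirCov UD := by
    refine ⟨fun {a b} h => i.preimage_mono h, fun x => ?_, fun a b x hx1 hx2 => ?_⟩
    · obtain ⟨a, ha⟩ := hdir.cover (i x)
      exact ⟨a, ha⟩
    · obtain ⟨k, hk1, hk2, hk3⟩ := hdir.dir a b (i x) hx1 hx2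
      exact ⟨k, hk1, hk2, hk3⟩
  let s : ∀ W : I, Sol φ i W.1 := fun W => W.2.2.some
  have htr : ∀ {W W' : I} (h : W ≤ W'), ∃ (m : (s W).CW ⟶ (s W').CW) (mD : (s W).DW ⟶ (s W').DW),
      IsPullback m (s W).f (s W').f (C.homOfLE h) ∧
      IsPullback mD (s W).d (s W').d (D.homOfLE (i.preimage_mono h)) ∧ mD ≫ (s W').iW = (s W).iW ≫ m :=
    fun {W W'} h => exists_trans hU hS hC h (hqc _ W.2.1) (hqs _ W.2.1) (hqc _ W'.2.1) (hqs _ W'.2.1) _ _
  choose m mD hm hmD hmi using @htr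
  -- gluing of the curves
  let F : K788.GlueS.Fam U hdir :=
    { P := fun W => (s W).CW
      m := fun h => m h
      m_id := fun W => sol_trans_id (s W) _ (hm (le_refl W)).w
      m_comp := fun {W W' W''} h h' => by
        have e1 : m (h.trans h') ≫ (s W'').f = (s W).f ≫ C.homOfLE (h.trans h') := (hm (h.trans h')).w
        refine sol_ext (s W'') _ _ ?_ ?_
        · have e2 : m (h.trans h') ≫ (s W'').f ≫ W''.1.ι ≫ φ = (s W).f ≫ W.1.ι ≫ φ := by
            rw [← Category.assoc, e1, Category.assoc, ← Category.assoc (C.homOfLE _), C.homOfLE_ι]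
          rw [e2]
          exact (s W).st.1.1.2.1.1
        · rw [e1, Category.assoc, (hm h').w, ← Category.assoc, (hm h).w, Category.assoc,
            ← K788.GlueS.homOfLE_trans']
      c := fun W => (s W).f
      hc := fun h => hm h }
  let FD : K788.GlueS.Fam UD hdirD :=
    { P := fun W => (s W).DW
      m := fun h => mD h
      m_id := fun W => sol_trans_id_D (s W) _ (hmD (le_refl W)).w
      m_comp := fun {W W' W''} h h' => by
        have e1 : mD (h.trans h') ≫ (s W'').d = (s W).d ≫ D.homOfLE (i.preimage_mono (h.trans h')) :=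
          (hmD (h.trans h')).w
        refine sol_ext_D (s W'') _ _ ?_ ?_
        · have h1 : Flat ((s W).iW ≫ (s W).f ≫ W.1.ι ≫ φ) := (s W).st.1.1.2.1.2.2.2.2.2.2.1
          have h2 : (s W).iW ≫ (s W).f = (s W).d ≫ i ∣_ W.1 := (s W).st.1.1.1
          rw [← Category.assoc, h2, Category.assoc] at h1
          have e2 : mD (h.trans h') ≫ (s W'').d ≫ i ∣_ W''.1 ≫ W''.1.ι ≫ φ =
              (s W).d ≫ i ∣_ W.1 ≫ W.1.ι ≫ φ := by
            have e3 := (isPullback_homOfLE i (h.trans h') (i.preimage_mono (h.trans h'))).w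
            rw [← Category.assoc, e1, Category.assoc, reassoc_of% e3, ← Category.assoc (C.homOfLE _),
              C.homOfLE_ι]
          rw [e2]
          exact h1
        · rw [e1, Category.assoc, (hmD h').w, ← Category.assoc, (hmD h).w, Category.assoc,
            ← K788.GlueS.homOfLE_trans']
      c := fun W => (s W).d
      hc := fun h => hmD h }
  obtain ⟨C', fC, jC, jC1, jC2, -, -⟩ := K788.GlueS.exists_glue F
  obtain ⟨D', fD, jD, jD1, jD2, jD3, jD4⟩ := K788.GlueS.exists_glue FD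
  obtain ⟨i', hi'⟩ := jD3 C' (fun W => (s W).iW ≫ jC W) (by
    intro W W' h
    show mD h ≫ (s W').iW ≫ jC W' = (s W).iW ≫ jC W
    rw [← Category.assoc, hmi, Category.assoc]
    congr 1
    exact jC1 h)
  have w : i' ≫ fC = fD ≫ i := by
    refine jD4 C _ _ fun W => ?_
    have e1 : jC W ≫ fC = (s W).f ≫ W.1.ι := (jC2 W).w
    have e2 : jD W ≫ fD = (s W).d ≫ (i ⁻¹ᵁ W.1).ι := (jD2 W).w
    have e3 : (s W).iW ≫ (s W).f = (s W).d ≫ i ∣_ W.1 := (s W).st.1.1.1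
    have e4 : i ∣_ W.1 ≫ W.1.ι = (i ⁻¹ᵁ W.1).ι ≫ i := morphismRestrict_ι _ _
    rw [reassoc_of% (hi' W), e1, reassoc_of% e2, reassoc_of% e3, e4]
  obtain ⟨k1, k2, k3⟩ := isStable_of_target φ i hC i' fC fD w (fun c => by
    obtain ⟨W, hW⟩ := hdir.cover c
    exact ⟨W.1, hW, s W, jC W, jD W, jC2 W, jD2 W, (hi' W).symm⟩)
  exact ⟨C', D', i', fC, fD, k1, k2, k3⟩

end K122.Glue
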