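import Groth.Agent.SSMod.K122.Marks
import Groth.Agent.ResProp.K782.ChowOpen
import Groth.Agent.SSMod.K971.RestrictCurve
import Groth.Agent.SSMod.K971.EtaNbhd
import Mathlib.AlgebraicGeometry.AlgClosed.Basic

/-!
# The semistable model of an affine curve, with sections through given points
-/

set_option autoImplicit false
universe u
open CategoryTheory CategoryTheory.Limits AlgebraicGeometry K122.Plan2

namespace K122.Core

theorem exists_core (hC : Compact.{u}) (hN : NormalModel.{u}) (hSec : Sections.{u}) (hMod : StableModel.{u})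
    (V : Type u) [CommRing V] [IsDomain V] [ValuationRing V] [Finite (PrimeSpectrum V)]
    [IsAlgClosed (FractionRing V)] {C : Scheme.{u}} [IsAffine C] (φ : C ⟶ Spec (CommRingCat.of V))
    [LocallyOfFinitePresentation φ] (hn : Curv2.IsNodalFamily (pullback.snd φ (iK V)))
    (Δ : Set (Spec (CommRingCat.of (FractionRing V)) ⟶ pullback φ (iK V))) (hΔ : Δ.Finite)
    (hΔt : ∀ δ ∈ Δ, δ ≫ pullback.snd φ (iK V) = 𝟙 _)
    (hΔs : ∀ δ ∈ Δ, ∀ x, δ.base x ∉ DualGr.nonsmoothPts (pullback.snd φ (iK V))) :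
    ∃ (C' X : Scheme.{u}) (pX : X ⟶ Spec (CommRingCat.of V)) (k : C' ⟶ X) (g : C' ⟶ C)
      (e : pullback φ (iK V) ⟶ C') (τ : Δ → (Spec (CommRingCat.of V) ⟶ X)),
      IsOpenImmersion k ∧ IsProper g ∧ IsProper pX ∧ Curv2.IsNodalFamily pX ∧ g ≫ φ = k ≫ pX ∧
      IsPullback e (𝟙 _) g (pullback.fst φ (iK V)) ∧ (∀ δ, τ δ ≫ pX = 𝟙 _) ∧
      (∀ δ : Δ, δ.1 ≫ e ≫ k = iK V ≫ τ δ) ∧ (∀ δ δ' y, (τ δ).base y = (τ δ').base y → δ = δ') ∧
      ∀ δ y, (τ δ).base y ∉ DualGr.nonsmoothPts pX := by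
  have hlft : LocallyOfFiniteType φ := inferInstance
  obtain ⟨Cb, j, p, -, hj, hjq, hp, hjp, -⟩ := K782.ChowOpen.exists_compactification φ
  -- the generic fibres
  let CK := pullback φ (iK V)
  let jK : CK ⟶ pullback p (iK V) := pullback.lift (pullback.fst φ (iK V) ≫ j) (pullback.snd φ (iK V))
    (by rw [Category.assoc, hjp, pullback.condition])
  have hjK1 : jK ≫ pullback.fst p (iK V) = pullback.fst φ (iK V) ≫ j := pullback.lift_fst _ _ _
  have hjK2 : jK ≫ pullback.snd p (iK V) = pullback.snd φ (iK V) := pullback.lift_snd _ _ _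
  have sqj : IsPullback (pullback.fst φ (iK V)) jK j (pullback.fst p (iK V)) := by
    refine IsPullback.of_bot (h₃₁ := iK V) (v₂₁ := pullback.snd p (iK V)) (v₂₂ := p) ?_ hjK1.symm
      (IsPullback.of_hasPullback p (iK V))
    rw [hjK2, hjp]
    exact IsPullback.of_hasPullback φ (iK V)
  have hjKo : IsOpenImmersion jK := MorphismProperty.of_isPullback (P := @IsOpenImmersion) sqj hj
  have hqc : QuasiCompact (pullback.snd φ (iK V)) := inferInstance
  obtain ⟨P, πK, i0, hπK, hnP, hi0, sqi0⟩ := hC (FractionRing V) (pullback.snd φ (iK V)) (pullback.snd p (iK V))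
    hn jK hjK2
  let t : P ⟶ Spec (CommRingCat.of (FractionRing V)) := πK ≫ pullback.snd p (iK V)
  let β : P ⟶ Cb := πK ≫ pullback.fst p (iK V)
  have w : β ≫ p = t ≫ iK V := by
    show (πK ≫ pullback.fst p (iK V)) ≫ p = (πK ≫ pullback.snd p (iK V)) ≫ iK V
    rw [Category.assoc, Category.assoc, pullback.condition]
  have hlift : pullback.lift β t w = πK := by
    apply pullback.hom_ext
    · rw [pullback.lift_fst]
    · rw [pullback.lift_snd]
  obtain ⟨W, π, r, hπ, hrπ, sqW, hWf, hWlfp, hWr⟩ := hN V p t β w (by rw [hlift]; exact hπK)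
    (Marks.red_of_nodal t hnP)
  have hpW : IsProper (π ≫ p) := inferInstance
  have hi0t : i0 ≫ t = pullback.snd φ (iK V) := by
    show i0 ≫ πK ≫ pullback.snd p (iK V) = _
    rw [← Category.assoc, sqi0.w, Category.id_comp, hjK2]
  -- the marked points
  let Δ' : Set (Spec (CommRingCat.of (FractionRing V)) ⟶ P) := (fun δ => δ ≫ i0) '' Δ
  obtain ⟨X, pX, q, f, τ, hpX, hnX, sqX, hfW, hqf, hτ, hτδ, hτd, hτs⟩ := Marks.exists_dominating hSec hMod V (π ≫ p)
    hWr sqW hnP Δ' (hΔ.image _) (by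
      rintro _ ⟨δ, hδ, rfl⟩
      rw [Category.assoc, hi0t, hΔt δ hδ]) (by
      rintro _ ⟨δ, hδ, rfl⟩ x hx
      apply hΔs δ hδ x
      rw [← hi0t]
      have h1 : (δ ≫ i0).base x = i0 (δ x) := by simp
      rw [h1] at hx
      exact (not_congr (Groth.Agent.UnramA.NearPoint.stalkMap_comp_of_isOpenImmersion_formallySmooth
        i0 t (δ.base x))).2 hx)
  -- the model
  have hfπp : IsProper ((f ≫ π) ≫ p) := by
    rw [Category.assoc, hfW]
    exact hpX
  have hfπ : IsProper (f ≫ π) := IsProper.of_comp (f ≫ π) p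
  let C' := pullback (f ≫ π) j
  let g : C' ⟶ C := pullback.snd (f ≫ π) j
  let k : C' ⟶ X := pullback.fst (f ≫ π) j
  have hk : IsOpenImmersion k := inferInstance
  have hg : IsProper g := inferInstance
  have hst : g ≫ φ = k ≫ pX := by
    rw [← hjp, ← Category.assoc, ← pullback.condition, ← hfW]
    simp [k]
  have sq1 : IsPullback q πK (f ≫ π) (pullback.fst p (iK V)) := by
    refine IsPullback.of_bot (h₃₁ := iK V) (v₂₁ := pullback.snd p (iK V)) (v₂₂ := p) ?_ ?_
      (IsPullback.of_hasPullback p (iK V))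
    · rw [Category.assoc, hfW]
      exact sqX
    · rw [← Category.assoc, hqf, hrπ]
  have sq2 : IsPullback (i0 ≫ q) (𝟙 _) (f ≫ π) (jK ≫ pullback.fst p (iK V)) := sqi0.paste_horiz sq1
  rw [hjK1] at sq2
  let e : CK ⟶ C' := pullback.lift (i0 ≫ q) (pullback.fst φ (iK V)) (by rw [sq2.w, Category.id_comp])
  have hek : e ≫ k = i0 ≫ q := pullback.lift_fst _ _ _
  have heg : e ≫ g = pullback.fst φ (iK V) := pullback.lift_snd _ _ _
  have sqe : IsPullback e (𝟙 _) g (pullback.fst φ (iK V)) := by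
    refine IsPullback.of_right (h₁₂ := k) (h₂₂ := j) (v₁₃ := f ≫ π) ?_ (by rw [heg, Category.id_comp])
      (IsPullback.of_hasPullback (f ≫ π) j)
    rw [hek]
    exact sq2
  refine ⟨C', X, pX, k, g, e, fun δ => τ ⟨δ.1 ≫ i0, δ.1, δ.2, rfl⟩, hk, hg, hpX, hnX, hst, sqe, fun δ => hτ _,
    ?_, ?_, fun δ y => hτs _ y⟩
  · intro δ
    rw [← hτδ ⟨δ.1 ≫ i0, δ.1, δ.2, rfl⟩, hek, Category.assoc]
  · intro δ δ' y h
    have h1 := hτd _ _ y h
    have h2 : δ.1 ≫ i0 = δ'.1 ≫ i0 := congrArg Subtype.val h1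
    exact Subtype.ext ((cancel_mono i0).1 h2)

end K122.Core
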