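import Mathlib.AlgebraicGeometry.Fiber
import Mathlib.AlgebraicGeometry.Morphisms.Smooth
import Mathlib.AlgebraicGeometry.Morphisms.Separated
import Mathlib.AlgebraicGeometry.Morphisms.Proper
import Mathlib.AlgebraicGeometry.Restrict

/-!
# Maps of fibres
-/

set_option autoImplicit false
universe u

open CategoryTheory AlgebraicGeometry Limits TopologicalSpace

namespace K122.Fib

variable {X Y S : Scheme.{u}} (a : X ⟶ Y) (g : Y ⟶ S) (f : X ⟶ S) (h : a ≫ g = f) (y : S)

theorem isPullback_fiber (f : X ⟶ S) (y : S) :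
    IsPullback (f.fiberι y) (f.fiberToSpecResidueField y) f (S.fromSpecResidueField y) :=
  IsPullback.of_hasPullback _ _

/-- The map induced on fibres. -/
noncomputable def map : f.fiber y ⟶ g.fiber y :=
  (isPullback_fiber g y).lift (f.fiberι y ≫ a) (f.fiberToSpecResidueField y)
    (by rw [Category.assoc, h, (isPullback_fiber f y).w])

@[reassoc]
theorem map_ι : map a g f h y ≫ g.fiberι y = f.fiberι y ≫ a := (isPullback_fiber g y).lift_fst _ _ _

@[reassoc]
theorem map_to : map a g f h y ≫ g.fiberToSpecResidueField y = f.fiberToSpecResidueField y :=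
  (isPullback_fiber g y).lift_snd _ _ _

theorem isPullback_map : IsPullback (f.fiberι y) (map a g f h y) a (g.fiberι y) := by
  refine IsPullback.of_bot (v₂₁ := g.fiberToSpecResidueField y) (v₂₂ := g) ?_ (map_ι a g f h y).symm
    (isPullback_fiber g y)
  rw [map_to, h]
  exact isPullback_fiber f y

theorem ι_map_apply (x : f.fiber y) : (g.fiberι y).base ((map a g f h y).base x) = a.base ((f.fiberι y).base x) := by
  have := congrArg (fun k => k.base x) (map_ι a g f h y)
  simpa using this

/-- The point of the fibre given by a point of the source. -/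
noncomputable def pt (f : X ⟶ S) (y : S) (x : X) (hx : f.base x = y) : f.fiber y :=
  (f.fiberHomeo y).symm ⟨x, hx⟩

@[simp]
theorem ι_pt (f : X ⟶ S) (y : S) (x : X) (hx : f.base x = y) : (f.fiberι y).base (pt f y x hx) = x :=
  f.fiberι_fiberHomeo_symm y _

theorem ι_injective (f : X ⟶ S) (y : S) : Function.Injective (f.fiberι y).base :=
  (f.fiberι y).isEmbedding.injective

theorem f_ι (f : X ⟶ S) (y : S) (z : f.fiber y) : f.base ((f.fiberι y).base z) = y :=
  (f.fiberHomeo y z).2

theorem map_pt (x : X) (hx : f.base x = y) :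
    (map a g f h y).base (pt f y x hx) = pt g y (a.base x) (by rw [← hx, ← h]; rfl) := by
  apply ι_injective g y
  rw [ι_map_apply, ι_pt, ι_pt]

/-- The fibre of a fibre product is the product of the fibres. -/
theorem isPullback_prod {Z W : Scheme.{u}} {pX : X ⟶ S} {pW : W ⟶ S} {p₁ : Z ⟶ X} {p₂ : Z ⟶ W}
    (sq : IsPullback p₁ p₂ pX pW) (pZ : Z ⟶ S) (h₁ : p₁ ≫ pX = pZ) (h₂ : p₂ ≫ pW = pZ) (y : S) :
    IsPullback (map p₁ pX pZ h₁ y) (map p₂ pW pZ h₂ y) (pX.fiberToSpecResidueField y)
      (pW.fiberToSpecResidueField y) := by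
  have h3 : IsPullback (map p₁ pX pZ h₁ y) (pZ.fiberι y) (pX.fiberι y) p₁ := (isPullback_map p₁ pX pZ h₁ y).flip
  have h4 : IsPullback (map p₁ pX pZ h₁ y) (pZ.fiberι y ≫ p₂) (pX.fiberι y ≫ pX) pW := h3.paste_vert sq
  have h5 : IsPullback (map p₁ pX pZ h₁ y) (map p₂ pW pZ h₂ y ≫ pW.fiberι y)
      (pX.fiberToSpecResidueField y ≫ S.fromSpecResidueField y) pW := by
    rw [map_ι, ← (isPullback_fiber pX y).w]
    exact h4
  exact IsPullback.of_bot h5 (by rw [map_to, map_to]) (isPullback_fiber pW y).flip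

theorem isClosed_pt {σ : S ⟶ X} (f : X ⟶ S) [IsSeparated f] (hσ : σ ≫ f = 𝟙 S) (y : S)
    (hy : f.base (σ.base y) = y) : IsClosed ({pt f y (σ.base y) hy} : Set ↥(f.fiber y)) := by
  have h1 : IsClosedImmersion σ := by
    have : IsClosedImmersion (σ ≫ f) := by rw [hσ]; infer_instance
    exact IsClosedImmersion.of_comp σ f
  have h2 : ({pt f y (σ.base y) hy} : Set ↥(f.fiber y)) = (f.fiberι y).base ⁻¹' Set.range σ.base := by
    ext z
    constructor
    · rintro rfl
      exact ⟨y, (ι_pt f y _ hy).symm⟩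
    · rintro ⟨w, hw⟩
      have h3 : f.base (σ.base w) = w := by
        have := congrArg (fun k => k.base w) hσ
        simpa using this
      have h4 : w = y := by
        rw [← h3, hw, f_ι]
      subst h4
      apply ι_injective f w
      rw [ι_pt]
      exact hw.symm
  rw [h2]
  exact (h1.base_closed.isClosed_range).preimage (f.fiberι y).continuous

theorem apply_section {σ : S ⟶ X} {f : X ⟶ S} (hσ : σ ≫ f = 𝟙 S) (y : S) : f.base (σ.base y) = y := by
  have := congrArg (fun k => k.base y) hσ
  simpa using this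

theorem smooth_smoothLocus (f : X ⟶ S) [LocallyOfFinitePresentation f] : Smooth (f.smoothLocus.ι ≫ f) := by
  rw [← Scheme.Hom.smoothLocus_eq_top_iff, ← Scheme.Hom.preimage_smoothLocus_eq]
  simp

theorem exists_smooth (f : X ⟶ S) [LocallyOfFinitePresentation f] (y : S) (z : f.fiber y)
    (hz : (f.fiberι y).base z ∈ f.smoothLocus) :
    ∃ U : (f.fiber y).Opens, z ∈ U ∧ Smooth (U.ι ≫ f.fiberToSpecResidueField y) := by
  refine ⟨f.fiberι y ⁻¹ᵁ f.smoothLocus, hz, ?_⟩
  have h1 : Smooth (f.smoothLocus.ι ≫ f) := smooth_smoothLocus f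
  have h2 := (isPullback_morphismRestrict (f.fiberι y) f.smoothLocus).paste_vert (isPullback_fiber f y)
  exact MorphismProperty.of_isPullback (P := @Smooth) h2 h1

end K122.Fib
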