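import Groth.Agent.SSMod.K122.ThreeTopo
import Groth.Agent.Curves.K324.NodeAlg
import Groth.Agent.CurvesB.NodeSch2
import Groth.Agent.CalgA.RegBasic
import Mathlib.Topology.KrullDimension
import Mathlib.AlgebraicGeometry.AlgClosed.Basic

/-!
# Curves over an algebraically closed field: components through a point, closed points of products
-/

set_option autoImplicit false
universe u

open CategoryTheory AlgebraicGeometry Limits TopologicalSpace K122.ThreeTopo

namespace K122.FieldPts

/-- A `T0` space of Krull dimension at most one has specialisations of length at most one. -/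
theorem d1_of_dim_le {T : Type*} [TopologicalSpace T] [T0Space T] (h : topologicalKrullDim T ≤ 1) : D1 T := by
  intro x y hxy hne
  have key : ∀ a b c : T, a ⤳ b → a ≠ b → b ⤳ c → b ≠ c → False := by
    intro a b c hab hne1 hbc hne2
    let F : T → IrreducibleCloseds T := fun z => ⟨closure {z}, isIrreducible_singleton.closure, isClosed_closure⟩
    have hlt : ∀ z w : T, z ⤳ w → z ≠ w → F w < F z := by
      intro z w hzw hnzw
      refine lt_of_le_of_ne ?_ ?_
      · exact hzw.closure_subset
      · intro heq
        apply hnzw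
        have h1 : closure ({w} : Set T) = closure {z} := congrArg IrreducibleCloseds.carrier heq
        have h2 : w ⤳ z := specializes_iff_closure_subset.mpr h1.ge
        exact (hzw.antisymm h2).eq
    have h1 := hlt a b hab hne1
    have h2 := hlt b c hbc hne2
    let L : LTSeries (IrreducibleCloseds T) :=
      { length := 2
        toFun := ![F c, F b, F a]
        step := by
          intro i
          fin_cases i
          · exact h2
          · exact h1 }
    have h3 : ((2 : ℕ) : WithBot ℕ∞) ≤ topologicalKrullDim T := Order.LTSeries.length_le_krullDim L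
    have h5 := h3.trans h
    exact absurd h5 (by decide)
  constructor
  · by_contra hy
    obtain ⟨z, hyz, hnyz⟩ := exists_ne_of_not_isClosed hy
    exact key x y z hxy hne hyz hnyz
  · intro z hzx
    by_contra hnzx
    exact key z x y hzx hnzx hxy hne

section Branch

variable {X : Scheme.{u}}

theorem encard_le_minimalPrimes (x : X) :
    {ξ : X | Maxl ξ ∧ ξ ⤳ x}.encard ≤ (minimalPrimes (X.presheaf.stalk x)).encard := by
  classical
  have h1 : {ξ : X | Maxl ξ ∧ ξ ⤳ x} ⊆
      (fun P : PrimeSpectrum (X.presheaf.stalk x) => (X.fromSpecStalk x).base P) ''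
        {P | P.asIdeal ∈ minimalPrimes (X.presheaf.stalk x)} := by
    rintro ξ ⟨hξ, hs⟩
    have h2 : ξ ∈ Set.range (X.fromSpecStalk x).base := by
      rw [Scheme.range_fromSpecStalk]; exact hs
    obtain ⟨P, hP⟩ := h2
    refine ⟨P, ?_, hP⟩
    refine ⟨⟨P.isPrime, bot_le⟩, ?_⟩
    rintro Q ⟨hQ, -⟩ hle
    have h3 : (⟨Q, hQ⟩ : PrimeSpectrum (X.presheaf.stalk x)) ⤳ P := by
      rw [← PrimeSpectrum.le_iff_specializes]; exact hle
    have h4 : (X.fromSpecStalk x).base (⟨Q, hQ⟩ : PrimeSpectrum (X.presheaf.stalk x)) ⤳ ξ := by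
      rw [← hP]
      exact h3.map (X.fromSpecStalk x).continuous
    have h5 := hξ _ h4
    have h6 : Function.Injective (X.fromSpecStalk x).base := (X.fromSpecStalk x).injective
    have h7 : (⟨Q, hQ⟩ : PrimeSpectrum (X.presheaf.stalk x)) = P := h6 (h5.trans hP.symm)
    rw [← h7]
  refine (Set.encard_le_encard h1).trans ((Set.encard_image_le _ _).trans ?_)
  have h8 : Function.Injective (fun P : PrimeSpectrum (X.presheaf.stalk x) => P.asIdeal) :=
    fun P Q h => PrimeSpectrum.ext h
  rw [← h8.encard_image]
  apply Set.encard_le_encard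
  rintro _ ⟨P, hP, rfl⟩
  exact hP

theorem encard_le_one_of_isDomain (x : X) [IsDomain (X.presheaf.stalk x)] :
    {ξ : X | Maxl ξ ∧ ξ ⤳ x}.encard ≤ 1 := by
  refine (encard_le_minimalPrimes x).trans ?_
  rw [IsDomain.minimalPrimes_eq_singleton_bot]
  simp

theorem encard_minimalPrimes_le_two {K A : Type u} [Field K] [CommRing A] [IsLocalRing A] [Algebra K A]
    [IsNoetherianRing A] (h : Curv2.IsOrdDoublePt K A) : (minimalPrimes A).encard ≤ 2 := by
  obtain ⟨φ, ψ, hB⟩ := K324.NodeAlg.exists_isBranch h
  have hφ : (RingHom.ker φ).IsPrime := RingHom.ker_isPrime φ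
  have hψ : (RingHom.ker ψ).IsPrime := RingHom.ker_isPrime ψ
  have h4 : minimalPrimes A ⊆ {RingHom.ker φ, RingHom.ker ψ} := by
    intro P hP
    have h3 : RingHom.ker φ ≤ P ∨ RingHom.ker ψ ≤ P := by
      rw [← hP.1.1.mul_le]
      intro x hx
      have h4 := Ideal.mul_le_inf hx
      have : x = 0 := hB.inj x h4.1 h4.2
      rw [this]
      exact P.zero_mem
    obtain h5 | h5 := h3
    · left
      exact le_antisymm (hP.2 ⟨hφ, bot_le⟩ h5) h5
    · right
      exact le_antisymm (hP.2 ⟨hψ, bot_le⟩ h5) h5
  refine (Set.encard_le_encard h4).trans ?_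
  exact (Set.encard_insert_le _ _).trans (by rw [Set.encard_singleton]; norm_num)

/-- At most two components through a point of a curve with at worst nodes, over an algebraically closed field. -/
theorem encard_le_two (k : Type u) [Field k] [IsAlgClosed k] (X : Scheme.{u})
    [X.Over (Spec (CommRingCat.of k))] [LocallyOfFiniteType (X ↘ Spec (CommRingCat.of k))]
    (hX : Curv2.AtWorstNodal k X) (x : X) (hx : IsClosed ({x} : Set X)) :
    {ξ : X | Maxl ξ ∧ ξ ⤳ x}.encard ≤ 2 := by
  rcases hX x hx with h | h
  · have h1 := Groth.Agent.CurvesB.NodeSch2.isRegularLocalRing_of_exists k x h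
    have h2 : IsDomain (X.presheaf.stalk x) := Groth.Agent.CalgA.RegBasic.isDomain _
    exact (encard_le_one_of_isDomain x).trans (by norm_num)
  · obtain ⟨-, xb, rfl, h⟩ := h
    have hb : Function.Bijective (algebraMap k (AlgebraicClosure k)) :=
      IsAlgClosed.algebraMap_bijective_of_isIntegral
    have h1 : IsIso (CommRingCat.ofHom (algebraMap k (AlgebraicClosure k))) :=
      (ConcreteCategory.isIso_iff_bijective _).mpr hb
    have h2 : IsIso (Curv2.bcFst k X (AlgebraicClosure k)) := inferInstance
    have hN : IsLocallyNoetherian (Curv2.bc k X (AlgebraicClosure k)) :=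
      LocallyOfFiniteType.isLocallyNoetherian (Curv2.bcSnd k X (AlgebraicClosure k))
    let e : X.presheaf.stalk (Curv2.bcFst k X (AlgebraicClosure k) xb) ≃+*
        (Curv2.bc k X (AlgebraicClosure k)).presheaf.stalk xb :=
      (asIso ((Curv2.bcFst k X (AlgebraicClosure k)).stalkMap xb)).commRingCatIsoToRingEquiv
    let _ := @Curv2.stalkAlgebra (AlgebraicClosure k) _ (Curv2.bc k X (AlgebraicClosure k))
      ⟨Curv2.bcSnd k X (AlgebraicClosure k)⟩ xb
    let fn : (Curv2.bc k X (AlgebraicClosure k)).Over (Spec (CommRingCat.of (AlgebraicClosure k))) :=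
      ⟨Curv2.bcSnd k X (AlgebraicClosure k)⟩
    refine (encard_le_minimalPrimes _).trans ?_
    have h3 := encard_minimalPrimes_le_two h
    refine le_trans ?_ h3
    have h4 : Function.Injective (fun P : Ideal (X.presheaf.stalk (Curv2.bcFst k X (AlgebraicClosure k) xb)) =>
        P.comap e.symm.toRingHom) := by
      intro P Q hPQ
      have : (P.comap e.symm.toRingHom).comap e.toRingHom = (Q.comap e.symm.toRingHom).comap e.toRingHom :=
        congrArg _ hPQ
      simpa [Ideal.comap_comap] using this
    rw [← h4.encard_image]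
    apply Set.encard_le_encard
    rintro _ ⟨P, hP, rfl⟩
    refine ⟨⟨(hP.1.1).comap _, bot_le⟩, ?_⟩
    rintro Q ⟨hQ, -⟩ hle
    have h5 : Q.comap e.toRingHom ≤ P := by
      intro z hz
      have h6 := hle hz
      simpa using h6
    have h6 := hP.2 ⟨hQ.comap _, bot_le⟩ h5
    intro z hz
    have h7 : e.symm z ∈ P := hz
    have h8 : e.toRingHom (e.symm z) ∈ Q := h6 h7
    simpa using h8

end Branch

section Prod

variable {k : Type u} [Field k] [IsAlgClosed k] {P X W : Scheme.{u}}

/-- A point of `X × W` with closed projections is closed. -/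
theorem isClosed_of_isPullback {pX : X ⟶ Spec (CommRingCat.of k)} {pW : W ⟶ Spec (CommRingCat.of k)}
    {f : P ⟶ X} {g : P ⟶ W} (sq : IsPullback f g pX pW) [LocallyOfFiniteType pX] [IsSeparated pX]
    (z : P) (h1 : IsClosed ({f.base z} : Set X)) (h2 : IsClosed ({g.base z} : Set W)) :
    IsClosed ({z} : Set P) := by
  let s : Spec (CommRingCat.of k) ⟶ X := pointOfClosedPoint pX (f.base z) h1
  have hs : s ≫ pX = 𝟙 _ := pointOfClosedPoint_comp _ _ _
  have hsc : IsClosedImmersion s := by
    have : IsClosedImmersion (s ≫ pX) := by rw [hs]; infer_instance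
    exact IsClosedImmersion.of_comp s pX
  let j := pullback.fst f s
  have sq1 : IsPullback j (pullback.snd f s) f s := IsPullback.of_hasPullback f s
  have hj : IsClosedImmersion j := inferInstance
  have sq2 : IsPullback (j ≫ g) (pullback.snd f s) pW (s ≫ pX) :=
    (sq1.flip.paste_vert sq).flip
  have hiso : IsIso (j ≫ g) := by
    have : IsIso (s ≫ pX) := by rw [hs]; infer_instance
    exact sq2.isIso_fst_of_isIso
  have hz : z ∈ Set.range j.base := by
    have h3 : f.base z ∈ Set.range s.base := by
      have h4 : Nonempty (Spec (CommRingCat.of k)) := inferInstance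
      exact ⟨h4.some, pointOfClosedPoint_apply pX (f.base z) h1 _⟩
    have h4 : Set.range j = f ⁻¹' Set.range s := Scheme.Pullback.range_fst f s
    rw [h4]
    exact h3
  obtain ⟨z', hz'⟩ := hz
  have h3 : IsClosed ({z'} : Set ↥(pullback f s)) := by
    have h4 : ({z'} : Set ↥(pullback f s)) = (j ≫ g).base ⁻¹' {g.base z} := by
      ext w
      simp only [Set.mem_singleton_iff, Set.mem_preimage]
      constructor
      · rintro rfl
        rw [← hz']
        simp
      · intro hw
        have h5 : Function.Injective (j ≫ g).base := (j ≫ g).injective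
        apply h5
        rw [hw, ← hz']
        simp
    rw [h4]
    exact h2.preimage (j ≫ g).continuous
  have h4 := hj.base_closed.isClosedMap _ h3
  rwa [Set.image_singleton, hz'] at h4

end Prod

end K122.FieldPts
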