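import Groth.Agent.SSMod.K122.Plan2
import Groth.Agent.SSMod.K122.ValBase
import Groth.Agent.SSMod.K971.Basic
import Groth.Agent.SSMod.K971.SmoothEta
import Mathlib.AlgebraicGeometry.ValuativeCriterion
import Mathlib.AlgebraicGeometry.FunctionField

/-!
# The generic point of the spectrum of a domain; sections; finite sums of closed immersions
-/

set_option autoImplicit false
universe u
open CategoryTheory CategoryTheory.Limits AlgebraicGeometry K122.Plan2

namespace K122.Gen

section

variable (V : Type u) [CommRing V] [IsDomain V]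

theorem exists_gen_aux (B : CommRingCat.{u}) [IsDomain B] (K : Type u) [Field K] [Algebra B K]
    [IsFractionRing B K] :
    ∃ e : Spec ((Spec B).presheaf.stalk (genericPoint (Spec B))) ≅ Spec (CommRingCat.of K),
      e.hom ≫ Spec.map (CommRingCat.ofHom (algebraMap B K)) = (Spec B).fromSpecStalk (genericPoint (Spec B)) := by
  let e : K ≃ₐ[B] (Spec B).functionField :=
    IsLocalization.algEquiv (nonZeroDivisors B) K (Spec B).functionField
  let e' : CommRingCat.of K ≅ (Spec B).functionField := e.toRingEquiv.toCommRingCatIso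
  refine ⟨Scheme.Spec.mapIso e'.op, ?_⟩
  change Spec.map (CommRingCat.ofHom e.toRingEquiv.toRingHom) ≫ _ = _
  rw [← Spec.map_comp, ← CommRingCat.ofHom_comp]
  have h1 : (e.toRingEquiv.toRingHom).comp (algebraMap B K) =
      algebraMap B (Spec B).functionField := by
    ext x
    exact e.commutes x
  rw [h1]
  exact (Spec.fromSpecStalk_eq' _ _).symm

theorem exists_gen : ∃ e : Spec ((Spec (CommRingCat.of V)).presheaf.stalk (genericPoint (Spec (CommRingCat.of V)))) ≅
    Spec (CommRingCat.of (FractionRing V)),
    e.hom ≫ iK V = (Spec (CommRingCat.of V)).fromSpecStalk (genericPoint (Spec (CommRingCat.of V))) :=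
  exists_gen_aux (CommRingCat.of V) (FractionRing V)

theorem dominant_iK : IsSchemeTheoreticallyDominant (iK V) := by
  obtain ⟨e, he⟩ := exists_gen V
  have h := K263.GenFibre.dominant_fromSpecStalk (Spec (CommRingCat.of V))
  rw [← he] at h
  exact K263.ToImage.of_comp e.hom (iK V)

theorem flat_iK : Flat (iK V) := by
  obtain ⟨e, he⟩ := exists_gen V
  have h := K263.EtaRed.flat_fromSpecStalk (Spec (CommRingCat.of V)) (genericPoint (Spec (CommRingCat.of V)))
  have h2 : iK V = e.inv ≫ (Spec (CommRingCat.of V)).fromSpecStalk (genericPoint (Spec (CommRingCat.of V))) := by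
    rw [← he, Iso.inv_hom_id_assoc]
  rw [h2]
  infer_instance

theorem quasiCompact_iK : QuasiCompact (iK V) := inferInstance

variable {V}

theorem isPullback_gen {X P : Scheme.{u}} {q : P ⟶ X} {t : P ⟶ Spec (CommRingCat.of (FractionRing V))}
    {pX : X ⟶ Spec (CommRingCat.of V)} (H : IsPullback q t pX (iK V))
    (e : Spec ((Spec (CommRingCat.of V)).presheaf.stalk (genericPoint (Spec (CommRingCat.of V)))) ≅
      Spec (CommRingCat.of (FractionRing V)))
    (he : e.hom ≫ iK V = (Spec (CommRingCat.of V)).fromSpecStalk (genericPoint (Spec (CommRingCat.of V)))) :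
    IsPullback q (t ≫ e.inv) pX
      ((Spec (CommRingCat.of V)).fromSpecStalk (genericPoint (Spec (CommRingCat.of V)))) := by
  refine IsPullback.of_iso H (Iso.refl _) (Iso.refl _) e.symm (Iso.refl _) ?_ ?_ ?_ ?_
  · simp
  · simp
  · simp
  · rw [Iso.symm_hom, ← he, Iso.inv_hom_id_assoc]
    simp

theorem range_iK (V : Type u) [CommRing V] [IsDomain V] :
    Set.range (iK V).base = {genericPoint (Spec (CommRingCat.of V))} := by
  obtain ⟨e, he⟩ := exists_gen V
  ext y
  constructor
  · rintro ⟨x, rfl⟩
    have h1 : (iK V).base x = ((Spec (CommRingCat.of V)).fromSpecStalk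
        (genericPoint (Spec (CommRingCat.of V)))).base (e.inv.base x) := by
      rw [← he]
      simp
    rw [h1]
    exact K263.GenFibre.apply_fromSpecStalk _ _
  · rintro rfl
    let z : Spec (CommRingCat.of (FractionRing V)) := IsLocalRing.closedPoint (FractionRing V)
    refine ⟨z, ?_⟩
    have h1 : (iK V).base z = ((Spec (CommRingCat.of V)).fromSpecStalk
        (genericPoint (Spec (CommRingCat.of V)))).base (e.inv.base z) := by
      rw [← he]
      simp
    rw [h1]
    exact K263.GenFibre.apply_fromSpecStalk _ _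

/-- The relative dimension is that of the generic fibre. -/
theorem hasRelDim_of_isPullback {X P : Scheme.{u}} {q : P ⟶ X} {t : P ⟶ Spec (CommRingCat.of (FractionRing V))}
    {pX : X ⟶ Spec (CommRingCat.of V)} [Flat pX] [LocallyOfFiniteType pX] (H : IsPullback q t pX (iK V)) {n : ℕ}
    (h : Cyc.HasRelDim t n) : Cyc.HasRelDim pX n := by
  obtain ⟨e, he⟩ := exists_gen V
  have hlt : LocallyOfFiniteType t := MorphismProperty.of_isPullback (P := @LocallyOfFiniteType) H inferInstance
  refine ValBase.hasRelDim_of_isPullback pX (isPullback_gen H e he) ?_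
  have h1 : IsPullback (𝟙 P) (t ≫ e.inv) t e.hom := by
    refine IsPullback.of_horiz_isIso ⟨?_⟩
    simp
  exact K970.BCHyp.hasRelDim_of_isPullback h1 h

end

section Val

variable (V : Type u) [CommRing V] [IsDomain V] [ValuationRing V]

/-- The valuative criterion for sections. -/
theorem exists_section {M : Scheme.{u}} (π : M ⟶ Spec (CommRingCat.of V)) [IsProper π]
    (g : Spec (CommRingCat.of (FractionRing V)) ⟶ M) (hg : g ≫ π = iK V) :
    ∃ l : Spec (CommRingCat.of V) ⟶ M, l ≫ π = 𝟙 _ ∧ iK V ≫ l = g := by
  have hM : IsProper π := inferInstance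
  rw [IsProper.eq_valuativeCriterion] at hM
  have hex := ValuativeCriterion.existence hM.1.1.1
  let S : ValuativeCommSq π :=
    { R := V
      K := FractionRing V
      i₁ := g
      i₂ := 𝟙 _
      commSq := ⟨by rw [hg, Category.comp_id]⟩ }
  obtain ⟨⟨l⟩⟩ := hex S
  exact ⟨l.l, l.fac_right, l.fac_left⟩

omit [ValuationRing V] in
/-- Sections of a separated morphism agreeing at the generic point agree. -/
theorem section_ext {M : Scheme.{u}} (π : M ⟶ Spec (CommRingCat.of V)) [IsSeparated π]
    {l l' : Spec (CommRingCat.of V) ⟶ M} (h : l ≫ π = 𝟙 _) (h' : l' ≫ π = 𝟙 _)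
    (hg : iK V ≫ l = iK V ≫ l') : l = l' := by
  have hd : IsDominant (iK V) := by
    have := dominant_iK V
    infer_instance
  exact ext_of_isDominant_of_isSeparated π (h.trans h'.symm) (iK V) hg

end Val

section Sigma

theorem exists_sigma {ι : Type u} (X : ι → Scheme.{u}) (x : (∐ X : Scheme.{u})) :
    ∃ i y, (Sigma.ι X i).base y = x := (sigmaOpenCover X).exists_eq x

theorem isClosedImmersion_sigmaDesc {ι : Type u} [Finite ι] {X : ι → Scheme.{u}} {Y : Scheme.{u}}
    (f : ∀ i, X i ⟶ Y) (h : ∀ i, IsClosedImmersion (f i))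
    (hd : ∀ i j x y, (f i).base x = (f j).base y → i = j) : IsClosedImmersion (Sigma.desc f) := by
  have hιf : ∀ i (y : X i), (Sigma.desc f).base ((Sigma.ι X i).base y) = (f i).base y := by
    intro i y
    exact congrArg (fun k => k.base y) (Sigma.ι_desc f i)
  have h1 : SurjectiveOnStalks (Sigma.desc f) :=
    IsZariskiLocalAtSource.sigmaDesc (P := @SurjectiveOnStalks) (fun i => by
      have := h i; infer_instance)
  have h2 : Function.Injective (Sigma.desc f).base := by
    intro x x' hxx
    obtain ⟨i, y, rfl⟩ := exists_sigma X x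
    obtain ⟨j, z, rfl⟩ := exists_sigma X x'
    rw [hιf, hιf] at hxx
    obtain rfl := hd i j y z hxx
    have := h i
    rw [(f i).isClosedEmbedding.injective hxx]
  have h3 : IsClosedMap (Sigma.desc f).base := by
    intro Z hZ
    have : (Sigma.desc f).base '' Z = ⋃ i, (f i).base '' ((Sigma.ι X i).base ⁻¹' Z) := by
      ext y
      simp only [Set.mem_iUnion, Set.mem_image, Set.mem_preimage]
      constructor
      · rintro ⟨x, hx, rfl⟩
        obtain ⟨i, z, rfl⟩ := exists_sigma X x
        exact ⟨i, z, hx, (hιf i z).symm⟩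
      · rintro ⟨i, z, hz, rfl⟩
        exact ⟨(Sigma.ι X i).base z, hz, hιf i z⟩
    rw [this]
    exact isClosed_iUnion_of_finite fun i =>
      have := h i
      (f i).isClosedEmbedding.isClosedMap _ (hZ.preimage (Sigma.ι X i).continuous)
  exact { toSurjectiveOnStalks := h1
          isClosedEmbedding := .of_continuous_injective_isClosedMap
            (Sigma.desc f).continuous h2 h3 }

end Sigma

end K122.Gen
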