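import Groth.Agent.SSMod.K971.SsLocus
import Groth.Agent.SSMod.K971.EtaNbhd

/-!
# Stable modifications which are isomorphisms on generic fibres are local on the target
-/

set_option autoImplicit false
universe u
open CategoryTheory CategoryTheory.Limits AlgebraicGeometry TopologicalSpace

namespace K122.GlueLoc

section Exc

/-- Exceptional components contained in an open preimage. -/
theorem isExcComp_restrict {Ω : Type u} [Field Ω] {X' X Y' Y : Scheme.{u}} {f : X' ⟶ X} {J' : Y' ⟶ X'}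
    {fY : Y' ⟶ Y} {J : Y ⟶ X} [IsOpenImmersion J] (sq : IsPullback J' fY f J) {M Z : Set X'}
    {q : X' ⟶ Spec (CommRingCat.of Ω)} (hZ : Z ∈ irreducibleComponents X') (h : SSMod.IsExcComp Ω f q M Z)
    (hZJ : Z ⊆ Set.range J'.base) :
    J'.base ⁻¹' Z ∈ irreducibleComponents Y' ∧
      SSMod.IsExcComp Ω fY (J' ≫ q) (J'.base ⁻¹' M) (J'.base ⁻¹' Z) := by
  have hJ' : IsOpenImmersion J' := MorphismProperty.of_isPullback sq.flip ‹IsOpenImmersion J›
  obtain ⟨⟨e, he, heq, her⟩, h2, h3⟩ := h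
  have hle : Set.range e ⊆ Set.range J' := by
    intro x hx
    exact hZJ (her ▸ hx)
  let e' := IsOpenImmersion.lift J' e hle
  have he' : e' ≫ J' = e := IsOpenImmersion.lift_fac J' e hle
  refine ⟨preimage_mem_irreducibleComponents hZ J'.isOpenEmbedding ?_, ⟨e', ?_, ?_, ?_⟩, ?_, ?_⟩
  · obtain ⟨x, hx⟩ := hZ.1.nonempty
    exact ⟨x, hx, hZJ hx⟩
  · have : IsClosedImmersion (e' ≫ J') := by rw [he']; exact he
    exact IsClosedImmersion.of_comp e' J'
  · rw [← Category.assoc, he', heq]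
  · ext y
    constructor
    · rintro ⟨x, rfl⟩
      show J'.base (e'.base x) ∈ Z
      rw [← her]
      exact ⟨x, (congrArg (fun k => k.base x) he').symm⟩
    · intro hy
      have hy' : J'.base y ∈ Z := hy
      rw [← her] at hy'
      obtain ⟨x, hx⟩ := hy'
      refine ⟨x, J'.isOpenEmbedding.injective ?_⟩
      rw [← hx]
      exact congrArg (fun k => k.base x) he'
  · refine le_trans ?_ h2
    rw [← Set.InjOn.encard_image (J'.isOpenEmbedding.injective.injOn)]
    apply Set.encard_le_encard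
    rintro _ ⟨y, ⟨hy1, hy2⟩, rfl⟩
    refine ⟨hy1, ?_⟩
    rcases hy2 with hy2 | hy2
    · exact Or.inl hy2
    · exact Or.inr ((not_congr (Groth.Agent.UnramA.NearPoint.stalkMap_comp_of_isOpenImmersion_formallySmooth
        J' q y)).1 hy2)
  · rintro _ ⟨y, hy, rfl⟩ _ ⟨y', hy', rfl⟩
    apply J.isOpenEmbedding.injective
    have e1 : ∀ z, J.base (fY.base z) = f.base (J'.base z) := fun z =>
      congrArg (fun k => k.base z) sq.w.symm
    rw [e1, e1]
    exact h3 ⟨_, hy, rfl⟩ ⟨_, hy', rfl⟩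

end Exc

section Local

/-- A property local on the target, checked on cartesian squares over open immersions. -/
theorem of_target (P : MorphismProperty Scheme.{u}) [IsZariskiLocalAtTarget P] {X Y : Scheme.{u}} (f : X ⟶ Y)
    (H : ∀ y : Y, ∃ (A B : Scheme.{u}) (a : A ⟶ X) (g : A ⟶ B) (b : B ⟶ Y), IsOpenImmersion b ∧
      y ∈ Set.range b ∧ IsPullback a g f b ∧ P g) : P f := by
  choose A B a g b hb hy sq hg using H
  let 𝒰 : Y.OpenCover :=
    { I₀ := Y
      X := B
      f := b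
      mem₀ := by
        rw [Scheme.presieve₀_mem_precoverage_iff]
        exact ⟨fun y => ⟨y, hy y⟩, hb⟩ }
  refine IsZariskiLocalAtTarget.of_openCover (P := P) (𝒰 := 𝒰) fun y => ?_
  have e : (sq y).isoPullback.inv ≫ g y = pullback.snd f (b y) := (sq y).isoPullback_inv_snd
  show P (pullback.snd f (b y))
  rw [← e, P.cancel_left_of_respectsIso]
  exact hg y

theorem of_source (P : MorphismProperty Scheme.{u}) [IsZariskiLocalAtSource P] {X Y : Scheme.{u}} (f : X ⟶ Y)
    (H : ∀ x : X, ∃ (A : Scheme.{u}) (a : A ⟶ X), IsOpenImmersion a ∧ x ∈ Set.range a ∧ P (a ≫ f)) : P f := by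
  choose A a ha hx hP using H
  let 𝒰 : X.OpenCover :=
    { I₀ := X
      X := A
      f := a
      mem₀ := by
        rw [Scheme.presieve₀_mem_precoverage_iff]
        exact ⟨fun y => ⟨y, hx y⟩, ha⟩ }
  exact IsZariskiLocalAtSource.of_openCover (P := P) (𝒰 := 𝒰) fun y => hP y

theorem hasRelDim_of_source {X Y : Scheme.{u}} (f : X ⟶ Y) [LocallyOfFiniteType f] (n : ℕ)
    (H : ∀ x : X, ∃ (A : Scheme.{u}) (a : A ⟶ X), IsOpenImmersion a ∧ x ∈ Set.range a ∧
      Cyc.HasRelDim (a ≫ f) n) : Cyc.HasRelDim f n := by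
  rw [K582.FibRelDim.hasRelDim_iff]
  intro x
  obtain ⟨A, a, ha, ⟨y, rfl⟩, h⟩ := H x
  rw [K582.FibRelDim.hasRelDim_iff] at h
  rw [← K582.FibRelDim.fibreDimAt_comp_isOpenImmersion]
  exact h y

theorem nodal_of_source {X Y : Scheme.{u}} (f : X ⟶ Y)
    (H : ∀ x : X, ∃ (A : Scheme.{u}) (a : A ⟶ X), IsOpenImmersion a ∧ x ∈ Set.range a ∧
      Curv2.IsNodalFamily (a ≫ f)) : Curv2.IsNodalFamily f := by
  choose A a ha hx hP using H
  have : ∀ x, Etale (a x) := fun x => by
    have := ha x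
    infer_instance
  exact Groth.Agent.S1593.result f X A a (fun x => ⟨x, hx x⟩) hP

end Local

section Main

variable {S C D : Scheme.{u}} [IsIntegral S]

/-- A stable modification over an open, isomorphic on generic fibres. -/
structure Sol (φ : C ⟶ S) (i : D ⟶ C) (W : C.Opens) where
  CW : Scheme.{u}
  DW : Scheme.{u}
  iW : DW ⟶ CW
  f : CW ⟶ W
  d : DW ⟶ (i ⁻¹ᵁ W : D.Opens)
  st : SSMod.IsStableModification (W.ι ≫ φ) (i ∣_ W) iW f d
  eC : SSMod.IsEtaIso (W.ι ≫ φ) f
  eD : SSMod.IsEtaIso ((i ∣_ W) ≫ W.ι ≫ φ) d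

/-- Being an isomorphism on generic fibres is local on the target. -/
theorem isEtaIso_of_target {X' X : Scheme.{u}} (φ : X ⟶ S) (f : X' ⟶ X)
    (H : ∀ y : X, ∃ (A B : Scheme.{u}) (a : A ⟶ X') (g : A ⟶ B) (b : B ⟶ X), IsOpenImmersion b ∧
      y ∈ Set.range b ∧ IsPullback a g f b ∧ SSMod.IsEtaIso (b ≫ φ) g) : SSMod.IsEtaIso φ f := by
  refine K971.SSBasic.isEtaIso_of_forall ?_
  intro T Q p q t sq c hc
  refine of_target (MorphismProperty.isomorphisms Scheme.{u}) q ?_
  intro y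
  obtain ⟨A, B, a, g, b, hb, hy, sqb, hg⟩ := H (t y)
  have hyy : y ∈ Set.range (pullback.fst t b) := by
    rw [IsOpenImmersion.range_pullbackFst]
    exact hy
  -- the square over the open
  have sq1 : IsPullback (pullback.fst q (pullback.fst t b)) (pullback.snd q (pullback.fst t b)) q
      (pullback.fst t b) := IsPullback.of_hasPullback _ _
  have sq2 : IsPullback (pullback.fst q (pullback.fst t b) ≫ p) (pullback.snd q (pullback.fst t b)) f
      (pullback.fst t b ≫ t) := sq1.paste_horiz sq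
  rw [pullback.condition] at sq2
  let l : pullback q (pullback.fst t b) ⟶ A := sqb.lift (pullback.fst q (pullback.fst t b) ≫ p)
    (pullback.snd q (pullback.fst t b) ≫ pullback.snd t b) (by rw [sq2.w, Category.assoc])
  have sq3 : IsPullback l (pullback.snd q (pullback.fst t b)) g (pullback.snd t b) := by
    refine IsPullback.of_right (h₁₂ := a) (h₂₂ := b) (v₁₃ := f) ?_ (sqb.lift_snd _ _ _) sqb
    rw [show l ≫ a = _ from sqb.lift_fst _ _ _]
    exact sq2
  refine ⟨_, _, _, _, pullback.fst t b, inferInstance, hyy, sq1, ?_⟩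
  exact K971.SSBasic.isIso_of_isEtaIso hg sq3 (pullback.fst t b ≫ c) (by
    rw [Category.assoc, ← hc, ← Category.assoc, ← Category.assoc, pullback.condition])

omit [IsIntegral S] in
/-- The absence of exceptional components is local on the target. -/
theorem noExcComp_of_target {C' D' : Scheme.{u}} (φ : C ⟶ S) (i' : D' ⟶ C') (fC : C' ⟶ C)
    (H : ∀ c : C, ∃ (A B E : Scheme.{u}) (a : A ⟶ C') (g : A ⟶ B) (b : B ⟶ C) (iA : E ⟶ A),
      IsOpenImmersion b ∧ c ∈ Set.range b ∧ IsPullback a g fC b ∧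
      Set.range iA.base = a.base ⁻¹' Set.range i'.base ∧ SSMod.NoExcComp (b ≫ φ) iA g) :
    SSMod.NoExcComp φ i' fC := by
  intro Ω _ _ s Z hZ hexc
  obtain ⟨x, hx⟩ := hZ.1.nonempty
  let f := CInt.baseChangeOver fC φ s
  obtain ⟨A, B, E, a, g, b, iA, hb, hc, sq, hr, hno⟩ := H ((pullback.fst φ s).base (f.base x))
  let J := CInt.baseChangeOver b φ s
  have sqJ := K971.SSRestrict.isPullback_baseChangeOver b φ s
  have hJ : IsOpenImmersion J := MorphismProperty.of_isPullback (P := @IsOpenImmersion) sqJ hb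
  let fY := CInt.baseChangeOver g (b ≫ φ) s
  let J' : pullback (g ≫ b ≫ φ) s ⟶ pullback (fC ≫ φ) s :=
    pullback.lift (pullback.fst _ _ ≫ a) (pullback.snd _ _) (by
      rw [Category.assoc, reassoc_of% sq.w, pullback.condition])
  have hJ'1 : J' ≫ pullback.fst (fC ≫ φ) s = pullback.fst (g ≫ b ≫ φ) s ≫ a := pullback.lift_fst _ _ _
  have hJ'2 : J' ≫ pullback.snd (fC ≫ φ) s = pullback.snd (g ≫ b ≫ φ) s := pullback.lift_snd _ _ _
  have sq1 : IsPullback (pullback.fst (g ≫ b ≫ φ) s ≫ a) fY fC (pullback.fst (b ≫ φ) s ≫ b) :=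
    (K971.SSRestrict.isPullback_baseChangeOver g (b ≫ φ) s).paste_horiz sq
  have sq' : IsPullback J' fY f J := by
    refine IsPullback.of_right (h₁₂ := pullback.fst (fC ≫ φ) s) (h₂₂ := pullback.fst φ s) (v₁₃ := fC) ?_ ?_
      (K971.SSRestrict.isPullback_baseChangeOver fC φ s)
    · rw [hJ'1, K971.SSRestrict.baseChangeOver_fst]
      exact sq1
    · apply pullback.hom_ext
      · rw [Category.assoc, Category.assoc, K971.SSRestrict.baseChangeOver_fst,
          K971.SSRestrict.baseChangeOver_fst, reassoc_of% hJ'1, sq.w,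
          reassoc_of% (K971.SSRestrict.baseChangeOver_fst g (b ≫ φ) s)]
      · rw [Category.assoc, Category.assoc, K971.SSRestrict.baseChangeOver_snd,
          K971.SSRestrict.baseChangeOver_snd, K971.SSRestrict.baseChangeOver_snd, hJ'2]
  have hsub : Z ⊆ Set.range J'.base := by
    intro z hz
    rw [K971.SSRestrict.range_of_isPullback sq']
    have e1 : f.base z = f.base x := hexc.2.2 ⟨z, hz, rfl⟩ ⟨x, hx, rfl⟩
    show f.base z ∈ Set.range J.base
    rw [e1, K971.SSRestrict.range_of_isPullback sqJ.flip]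
    exact hc
  obtain ⟨h1, h2⟩ := isExcComp_restrict sq' hZ hexc hsub
  refine hno Ω s _ h1 ?_
  have hM : J'.base ⁻¹' ((pullback.fst (fC ≫ φ) s).base ⁻¹' Set.range i'.base) =
      (pullback.fst (g ≫ b ≫ φ) s).base ⁻¹' Set.range iA.base := by
    rw [hr]
    ext w
    have e1 : (pullback.fst (fC ≫ φ) s).base (J'.base w) = a.base ((pullback.fst (g ≫ b ≫ φ) s).base w) :=
      congrArg (fun k => k.base w) hJ'1
    show (pullback.fst (fC ≫ φ) s).base (J'.base w) ∈ Set.range i'.base ↔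
      a.base ((pullback.fst (g ≫ b ≫ φ) s).base w) ∈ Set.range i'.base
    rw [e1]
  rw [hM, hJ'2] at h2
  exact h2

/-- **Stable modifications which are isomorphisms on generic fibres are local on the target.** -/
theorem isStable_of_target {C' D' : Scheme.{u}} (φ : C ⟶ S) (i : D ⟶ C) (hMP : SSMod.IsMPCurve φ i)
    (i' : D' ⟶ C') (fC : C' ⟶ C) (fD : D' ⟶ D) (w : i' ≫ fC = fD ≫ i)
    (H : ∀ c : C, ∃ (W : C.Opens) (_ : c ∈ W) (s : Sol φ i W) (jC : s.CW ⟶ C') (jD : s.DW ⟶ D'),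
      IsPullback jC s.f fC W.ι ∧ IsPullback jD s.d fD (i ⁻¹ᵁ W).ι ∧ s.iW ≫ jC = jD ≫ i') :
    SSMod.IsStableModification φ i i' fC fD ∧ SSMod.IsEtaIso φ fC ∧ SSMod.IsEtaIso (i ≫ φ) fD := by
  obtain ⟨h1, h2, h3, h4, h5, h6, h7, h8, h9⟩ := hMP
  choose W hW s jC jD sqC sqD hj using H
  have hjC : ∀ c, IsOpenImmersion (jC c) := fun c =>
    MorphismProperty.of_isPullback (P := @IsOpenImmersion) (sqC c).flip inferInstance
  have hjD : ∀ c, IsOpenImmersion (jD c) := fun c =>
    MorphismProperty.of_isPullback (P := @IsOpenImmersion) (sqD c).flip inferInstance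
  -- properness
  have hpC : IsProper fC := of_target @IsProper fC fun c =>
    ⟨_, _, jC c, (s c).f, (W c).ι, inferInstance, by simpa using hW c, sqC c, (s c).st.1.1.2.2.1.1⟩
  have hpD : IsProper fD := of_target @IsProper fD fun d =>
    ⟨_, _, jD (i d), (s (i d)).d, (i ⁻¹ᵁ W (i d)).ι, inferInstance, by simpa using hW (i d), sqD _,
      (s (i d)).st.1.1.2.2.2.1⟩
  -- isomorphism on generic fibres
  have heC : SSMod.IsEtaIso φ fC := isEtaIso_of_target φ fC fun c =>
    ⟨_, _, jC c, (s c).f, (W c).ι, inferInstance, by simpa using hW c, sqC c, (s c).eC⟩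
  have hιi : ∀ c, (i ⁻¹ᵁ W c).ι ≫ i ≫ φ = (i ∣_ W c) ≫ (W c).ι ≫ φ := by
    intro c
    rw [← Category.assoc, ← (isPullback_morphismRestrict i (W c)).w, Category.assoc]
  have heD : SSMod.IsEtaIso (i ≫ φ) fD := isEtaIso_of_target (i ≫ φ) fD fun d =>
    ⟨_, _, jD (i d), (s (i d)).d, (i ⁻¹ᵁ W (i d)).ι, inferInstance, by simpa using hW (i d), sqD _, by
      rw [hιi]
      exact (s (i d)).eD⟩
  -- the covers of the sources
  have hxC : ∀ x : C', x ∈ Set.range (jC (fC x)) := by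
    intro x
    show x ∈ Set.range (jC (fC x)).base
    rw [K971.SSRestrict.range_of_isPullback (sqC (fC x))]
    show fC.base x ∈ Set.range (W (fC x)).ι.base
    have : fC x ∈ Set.range (W (fC x)).ι := by simpa using hW (fC x)
    exact this
  have hxD : ∀ x : D', x ∈ Set.range (jD (fC (i' x))) := by
    intro x
    have e1 : fC (i' x) = i (fD x) := by
      rw [← Scheme.Hom.comp_apply, w, Scheme.Hom.comp_apply]
    show x ∈ Set.range (jD (fC (i' x))).base
    rw [K971.SSRestrict.range_of_isPullback (sqD (fC (i' x)))]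
    show fD.base x ∈ Set.range (i ⁻¹ᵁ W (fC (i' x))).ι.base
    have : fD x ∈ Set.range (i ⁻¹ᵁ W (fC (i' x))).ι := by
      have h := hW (fC (i' x))
      simp only [Scheme.Opens.range_ι]
      show i (fD x) ∈ W (fC (i' x))
      rw [← e1]
      exact h
    exact this
  have hcC : ∀ c, jC c ≫ fC ≫ φ = (s c).f ≫ (W c).ι ≫ φ := by
    intro c
    rw [← Category.assoc, (sqC c).w, Category.assoc]
  have hcD : ∀ c, jD c ≫ i' ≫ fC ≫ φ = (s c).iW ≫ (s c).f ≫ (W c).ι ≫ φ := by
    intro c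
    rw [← Category.assoc, ← hj, Category.assoc, hcC]
  have hsrcC : ∀ (P : MorphismProperty Scheme.{u}) [IsZariskiLocalAtSource P],
      (∀ c, P ((s c).f ≫ (W c).ι ≫ φ)) → P (fC ≫ φ) := by
    intro P _ hP
    refine of_source P _ fun x => ⟨_, jC (fC x), hjC _, hxC x, ?_⟩
    rw [hcC]
    exact hP _
  have hsrcD : ∀ (P : MorphismProperty Scheme.{u}) [IsZariskiLocalAtSource P],
      (∀ c, P ((s c).iW ≫ (s c).f ≫ (W c).ι ≫ φ)) → P (i' ≫ fC ≫ φ) := by
    intro P _ hP
    refine of_source P _ fun x => ⟨_, jD (fC (i' x)), hjD _, hxD x, ?_⟩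
    rw [hcD]
    exact hP _
  have hflC : Flat (fC ≫ φ) := hsrcC @Flat fun c => (s c).st.1.1.2.1.1
  have hlfC : LocallyOfFinitePresentation (fC ≫ φ) :=
    hsrcC @LocallyOfFinitePresentation fun c => (s c).st.1.1.2.1.2.1
  have hetD : Etale (i' ≫ fC ≫ φ) := hsrcD @Etale fun c => (s c).st.1.2.2.2.1
  have hrdC : Cyc.HasRelDim (fC ≫ φ) 1 := hasRelDim_of_source _ _ fun x =>
    ⟨_, jC (fC x), hjC _, hxC x, by rw [hcC]; exact (s _).st.1.1.2.1.2.2.2.2.1⟩
  have hrdD : Cyc.HasRelDim (i' ≫ fC ≫ φ) 0 := hasRelDim_of_source _ _ fun x =>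
    ⟨_, jD (fC (i' x)), hjD _, hxD x, by rw [hcD]; exact (s _).st.1.1.2.1.2.2.2.2.2.2.2.2⟩
  have hnod : Curv2.IsNodalFamily (fC ≫ φ) := nodal_of_source _ fun x =>
    ⟨_, jC (fC x), hjC _, hxC x, by rw [hcC]; exact (s _).st.1.2.2.1⟩
  -- the marked subscheme
  have sqi : ∀ c, IsPullback (jD c) (s c).iW i' (jC c) := by
    intro c
    refine IsPullback.of_bot ?_ (hj c).symm (sqC c)
    rw [(s c).st.1.1.1, w]
    exact (sqD c).paste_vert (isPullback_morphismRestrict i (W c)).flip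
  have hi' : IsClosedImmersion i' := of_target @IsClosedImmersion i' fun x =>
    ⟨_, _, jD (fC x), (s (fC x)).iW, jC (fC x), hjC _, hxC x, sqi _, (s _).st.1.1.2.1.2.2.2.2.2.1⟩
  have hgl : LocallyOfFinitePresentation fC :=
    MorphismProperty.of_postcomp (W := @LocallyOfFinitePresentation) (W' := @LocallyOfFiniteType) fC φ
      inferInstance inferInstance
  have hetD' : Etale (fD ≫ i ≫ φ) := by
    rw [← Category.assoc, ← w, Category.assoc]
    exact hetD
  have hgDl : LocallyOfFinitePresentation fD :=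
    MorphismProperty.of_postcomp (W := @LocallyOfFinitePresentation) (W' := @LocallyOfFiniteType) fD (i ≫ φ)
      inferInstance inferInstance
  have hMP' : SSMod.IsMPCurve (fC ≫ φ) i' :=
    ⟨hflC, hlfC, inferInstance, inferInstance, hrdC, hi', inferInstance, inferInstance, hrdD⟩
  refine ⟨⟨⟨⟨w, hMP', ?_, ?_⟩, hMP', hnod, hetD, ?_⟩, ?_⟩, heC, heD⟩
  · exact K971.EtaNbhd.isModification_baseChange heC (t := 𝟙 _) (by simp)
      (IsPullback.of_horiz_isIso ⟨by simp⟩ : IsPullback (𝟙 _) φ φ (𝟙 _)) (p' := 𝟙 _) (fT := fC)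
      (IsPullback.of_horiz_isIso ⟨by simp⟩)
  · exact K971.EtaNbhd.isModification_baseChange heD (t := 𝟙 _) (by simp)
      (IsPullback.of_horiz_isIso ⟨by simp⟩ : IsPullback (𝟙 _) (i ≫ φ) (i ≫ φ) (𝟙 _)) (p' := 𝟙 _) (fT := fD)
      (IsPullback.of_horiz_isIso ⟨by simp⟩)
  · rw [Set.disjoint_left]
    rintro _ ⟨x, rfl⟩ hx
    obtain ⟨c, y, hy⟩ : ∃ c y, jD c y = x := ⟨_, hxD x⟩
    have e1 : i' x = jC c ((s c).iW y) := by
      rw [← hy, ← Scheme.Hom.comp_apply, ← Scheme.Hom.comp_apply, hj]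
    have hx' : jC c ((s c).iW y) ∈ DualGr.nonsmoothPts (fC ≫ φ) := by
      rw [← e1]; exact hx
    refine Set.disjoint_left.1 (s c).st.1.2.2.2.2 ⟨y, rfl⟩ ?_
    rw [← hcC]
    exact (not_congr (Groth.Agent.UnramA.NearPoint.stalkMap_comp_of_isOpenImmersion_formallySmooth
        (jC c) (fC ≫ φ) ((s c).iW y))).2 hx'
  · refine noExcComp_of_target φ i' fC fun c => ⟨_, _, _, jC c, (s c).f, (W c).ι, (s c).iW, inferInstance,
      by simpa using hW c, sqC c, ?_, (s c).st.2⟩
    exact K971.SSRestrict.range_of_isPullback (sqi c).flip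

end Main

end K122.GlueLoc
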