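import Groth.Agent.SSMod.K122.Glue
import Groth.Agent.SSMod.K122.Plan
import Groth.Agent.SSMod.K122.ValBase
import Groth.Agent.SSMod.K755.Plan5
import Groth.Agent.SSMod.K478.OpenC

/-!
# The stable modification over a valuation ring with algebraically closed fraction field
-/

set_option autoImplicit false
universe u
open CategoryTheory CategoryTheory.Limits AlgebraicGeometry TopologicalSpace

namespace K122.StabAlg

theorem exists_isPullback_bco {S T C D V DV : Scheme.{u}} {jD : DV ⟶ D} {iV : DV ⟶ V} {i : D ⟶ C} {j : V ⟶ C}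
    (sq : IsPullback jD iV i j) (φ : C ⟶ S) (s : T ⟶ S) :
    ∃ l, IsPullback l (CInt.baseChangeOver iV (j ≫ φ) s) (CInt.baseChangeOver i φ s)
      (CInt.baseChangeOver j φ s) := by
  let l : pullback (iV ≫ j ≫ φ) s ⟶ pullback (i ≫ φ) s :=
    pullback.lift (pullback.fst _ _ ≫ jD) (pullback.snd _ _) (by
      rw [Category.assoc, ← reassoc_of% sq.w.symm, pullback.condition])
  have hl1 : l ≫ pullback.fst (i ≫ φ) s = pullback.fst (iV ≫ j ≫ φ) s ≫ jD := pullback.lift_fst _ _ _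
  have hl2 : l ≫ pullback.snd (i ≫ φ) s = pullback.snd (iV ≫ j ≫ φ) s := pullback.lift_snd _ _ _
  refine ⟨l, IsPullback.of_right (h₁₂ := pullback.fst (i ≫ φ) s) (h₂₂ := pullback.fst φ s) (v₁₃ := i) ?_ ?_
    (K971.SSRestrict.isPullback_baseChangeOver i φ s)⟩
  · rw [hl1, K971.SSRestrict.baseChangeOver_fst]
    exact (K971.SSRestrict.isPullback_baseChangeOver iV (j ≫ φ) s).paste_horiz sq
  · apply pullback.hom_ext
    · rw [Category.assoc, Category.assoc, K971.SSRestrict.baseChangeOver_fst,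
        K971.SSRestrict.baseChangeOver_fst, reassoc_of% hl1, sq.w,
        reassoc_of% (K971.SSRestrict.baseChangeOver_fst iV (j ≫ φ) s)]
    · rw [Category.assoc, Category.assoc, K971.SSRestrict.baseChangeOver_snd,
        K971.SSRestrict.baseChangeOver_snd, K971.SSRestrict.baseChangeOver_snd, hl2]

theorem semistable_restrict_generic {S T C D V DV : Scheme.{u}} {jD : DV ⟶ D} {iV : DV ⟶ V} {i : D ⟶ C} {j : V ⟶ C}
    [IsOpenImmersion j] (sq : IsPullback jD iV i j) (φ : C ⟶ S) (s : T ⟶ S)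
    (hc : QuasiCompact (j ≫ φ)) (hs : QuasiSeparated (j ≫ φ))
    (h : SSMod.IsSemistable (pullback.snd φ s) (CInt.baseChangeOver i φ s)) :
    SSMod.IsSemistable (pullback.snd (j ≫ φ) s) (CInt.baseChangeOver iV (j ≫ φ) s) := by
  obtain ⟨l, hl⟩ := exists_isPullback_bco sq φ s
  have hj : IsOpenImmersion (CInt.baseChangeOver j φ s) := MorphismProperty.of_isPullback (P := @IsOpenImmersion)
    (K971.SSRestrict.isPullback_baseChangeOver j φ s) inferInstance
  have e1 := K971.SSRestrict.baseChangeOver_snd j φ s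
  have := K971.SSRestrict.isSemistable_restrict h hl (by rw [e1]; infer_instance) (by rw [e1]; infer_instance)
  rw [e1] at this
  exact this

theorem stabAlg (hLoc : Plan.LocSS.{u}) (hCon : K755.SSPlan.ContrLoc.{u}) (hU : K971.SSUses.Uniq.{u}) :
    Plan.StabAlg.{u} := by
  intro R _ _ _ _ _ C D φ i hMP _ _ hη
  obtain ⟨h1, h2, h3, h4, -⟩ := id hMP
  refine Glue.main hU (ValBase.isNormalScheme R) φ i hMP ?_
  intro c
  obtain ⟨W, hW, hcW⟩ : ∃ W : C.Opens, IsAffineOpen W ∧ c ∈ W := by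
    obtain ⟨W, hW, hcW, -⟩ := Opens.isBasis_iff_nbhd.mp C.isBasis_affineOpens (show c ∈ (⊤ : C.Opens) from trivial)
    exact ⟨W, hW, hcW⟩
  have hWa : IsAffine W := hW
  have hc : QuasiCompact (W.ι ≫ φ) := inferInstance
  have hs : QuasiSeparated (W.ι ≫ φ) := inferInstance
  have sqW := (isPullback_morphismRestrict i W).flip
  have hMPW := Glue.isMPCurve_opens hMP W hc hs
  obtain ⟨C', D', i', gC, gD, hss, he, heD⟩ := hLoc R (W.ι ≫ φ) (i ∣_ W) hMPW
    (semistable_restrict_generic sqW φ _ hc hs hη)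
  obtain ⟨V, hcV, CV, DV, iV, fV, fDV, k1, k2, k3⟩ := hCon R (W.ι ≫ φ) (i ∣_ W) hMPW i' gC gD hss he heD
    ⟨c, hcW⟩
  have sqV := (isPullback_morphismRestrict (i ∣_ W) V).flip.paste_horiz sqW
  have e1 : (V.ι ≫ W.ι) ≫ φ = V.ι ≫ W.ι ≫ φ := Category.assoc _ _ _
  obtain ⟨fV', fD', l1, l2, l3⟩ := K478.OpenC.main φ i (V.ι ≫ W.ι) _ _ sqV iV fV fDV (by rw [e1]; exact k1)
    (by rw [e1]; exact k2) (by rw [e1]; exact k3)
  exact ⟨(V.ι ≫ W.ι).opensRange, ⟨⟨⟨c, hcW⟩, hcV⟩, by simp⟩, CV, DV, iV, fV', fD', l1, l2, l3⟩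

end K122.StabAlg
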