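import Mathlib.Topology.NoetherianSpace
import Mathlib.Topology.Sober
import Mathlib.Data.Set.Card
import Mathlib.Topology.Connected.Basic
import Mathlib.Tactic.FinCases
import Mathlib.Tactic.NormNum
import Mathlib.Tactic.Push

/-!
# The three points lemma: topological part

`Maxl x`: nothing else specialises to `x` (a generic point).  `G → X`, `G → W` closed maps with
connected fibres between one-dimensional spaces: if every component of `W` has three closed points
lying under three points of `G` whose images in `X` are distinct and unibranch, and `X` has at most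
two branches everywhere, no component of `G` is contracted to a closed point of `X`.
-/

open TopologicalSpace Set

namespace K122.ThreeTopo

variable {G X W : Type*} [TopologicalSpace G] [TopologicalSpace X] [TopologicalSpace W]

/-- Nothing else specialises to `x`. -/
def Maxl {X : Type*} [TopologicalSpace X] (x : X) : Prop := ∀ y, y ⤳ x → y = x

/-- Specialisations have length at most one. -/
def D1 (X : Type*) [TopologicalSpace X] : Prop :=
  ∀ x y : X, x ⤳ y → x ≠ y → IsClosed ({y} : Set X) ∧ Maxl x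

theorem exists_ne_of_not_isClosed {x : X} (h : ¬ IsClosed ({x} : Set X)) : ∃ y, x ⤳ y ∧ x ≠ y := by
  by_contra hc
  push Not at hc
  apply h
  have : closure ({x} : Set X) = {x} := by
    apply Set.Subset.antisymm
    · intro y hy
      exact (hc y (specializes_iff_mem_closure.mpr hy)).symm
    · exact subset_closure
  rw [← this]
  exact isClosed_closure

theorem maxl_of_not_isClosed (hD : D1 X) {x : X} (h : ¬ IsClosed ({x} : Set X)) : Maxl x := by
  obtain ⟨y, hy, hxy⟩ := exists_ne_of_not_isClosed h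
  exact (hD x y hy hxy).2

/-- In a closed connected subset with more than one point, every closed point is a proper
specialisation. -/
theorem exists_specializes [NoetherianSpace G] [QuasiSober G] {T : Set G} (hT : IsClosed T)
    (hc : IsPreconnected T) {e g : G} (he : e ∈ T) (hg : g ∈ T) (hne : g ≠ e)
    (hecl : IsClosed ({e} : Set G)) : ∃ ξ ∈ T, ξ ≠ e ∧ ξ ⤳ e := by
  classical
  by_contra hno
  push Not at hno
  obtain ⟨S, hSf, hSi, hST⟩ := NoetherianSpace.exists_finite_set_isClosed_irreducible hT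
  obtain ⟨hSi, hST⟩ := (⟨hSi, hST⟩ : _ ∧ _)
  have hgen : ∀ Z ∈ S, e ∈ Z → Z = {e} := by
    intro Z hZ heZ
    have hZi := hST.1 Z hZ
    have hZc := hSi Z hZ
    obtain ⟨ζ, hζ⟩ := QuasiSober.sober hZi hZc
    have hζZ : ζ ∈ Z := by rw [← hζ]; exact subset_closure rfl
    have hζT : ζ ∈ T := by rw [hST.2]; exact ⟨Z, hZ, hζZ⟩
    have hζe : ζ ⤳ e := specializes_iff_mem_closure.mpr (by rw [hζ]; exact heZ)
    have : ζ = e := by
      by_contra hne'
      exact hno ζ hζT hne' hζe
    rw [← hζ, this]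
    exact hecl.closure_eq
  set T' : Set G := ⋃₀ {Z ∈ S | e ∉ Z} with hT'
  have hT'c : IsClosed T' := by
    rw [hT', Set.sUnion_eq_biUnion]
    apply Set.Finite.isClosed_biUnion
    · exact hSf.subset (fun Z hZ => hZ.1)
    · intro Z hZ
      exact hSi Z hZ.1
  have hcov : T ⊆ {e} ∪ T' := by
    intro t ht
    rw [hST.2] at ht
    obtain ⟨Z, hZ, htZ⟩ := ht
    by_cases heZ : e ∈ Z
    · left
      rw [hgen Z hZ heZ] at htZ
      exact htZ
    · right
      exact ⟨Z, ⟨hZ, heZ⟩, htZ⟩
  have h1 : (T ∩ {e}).Nonempty := ⟨e, he, rfl⟩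
  have h2 : (T ∩ T').Nonempty := by
    refine ⟨g, hg, ?_⟩
    rcases hcov hg with h | h
    · exact absurd h hne
    · exact h
  obtain ⟨y, -, hy1, hy2⟩ := (isPreconnected_closed_iff.mp hc) {e} T' hecl hT'c hcov h1 h2
  obtain ⟨Z, hZ, hyZ⟩ := hy2
  rw [Set.mem_singleton_iff] at hy1
  subst hy1
  exact hZ.2 hyZ

/-- A preconnected set of maximal points of a Noetherian space has at most one point. -/
theorem subsingleton_of_maxl [NoetherianSpace G] [QuasiSober G] {F : Set G}
    (hF : ∀ g ∈ F, Maxl g) (hc : IsPreconnected F) : F.Subsingleton := by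
  classical
  have hfin : F.Finite := by
    have h1 : (irreducibleComponents G).Finite := NoetherianSpace.finite_irreducibleComponents
    apply Set.Finite.of_finite_image (f := fun g => closure ({g} : Set G))
    · apply h1.subset
      rintro _ ⟨g, hg, rfl⟩
      rw [irreducibleComponents_eq_maximals_closed]
      refine ⟨⟨isClosed_closure, isIrreducible_singleton.closure⟩, ?_⟩
      rintro Z ⟨hZc, hZi⟩ hle
      obtain ⟨ζ, hζ⟩ := QuasiSober.sober hZi hZc
      have : ζ ⤳ g := by
        rw [specializes_iff_mem_closure, hζ]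
        exact hle (subset_closure rfl)
      have := hF g hg ζ this
      rw [← hζ, this]
    · intro g hg h hh heq
      have : g ⤳ h := by
        rw [specializes_iff_mem_closure]
        have : h ∈ closure ({h} : Set G) := subset_closure rfl
        exact (show closure ({g} : Set G) = closure {h} from heq) ▸ this
      exact hF h hh g this
  intro x hx y hy
  by_contra hne
  set A : Set G := closure {x} with hA
  set B : Set G := ⋃ z ∈ F \ {x}, closure ({z} : Set G) with hB
  have hBc : IsClosed B := (hfin.subset Set.sdiff_subset).isClosed_biUnion (fun z _ => isClosed_closure)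
  have hcov : F ⊆ A ∪ B := by
    intro z hz
    by_cases h : z = x
    · left; rw [h]; exact subset_closure rfl
    · right
      exact Set.mem_biUnion (⟨hz, h⟩ : z ∈ F \ {x}) (subset_closure rfl)
  obtain ⟨z, hz, hzA, hzB⟩ := (isPreconnected_closed_iff.mp hc) A B isClosed_closure hBc hcov
    ⟨x, hx, subset_closure rfl⟩
    ⟨y, hy, Set.mem_biUnion (⟨hy, fun h => hne h.symm⟩ : y ∈ F \ {x}) (subset_closure rfl)⟩
  have h1 : x = z := hF z hz x (specializes_iff_mem_closure.mpr hzA)
  obtain ⟨w, hw, hzw⟩ := Set.mem_iUnion₂.mp hzB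
  have h2 : w = z := hF z hz w (specializes_iff_mem_closure.mpr hzw)
  exact hw.2 (h2.trans h1.symm)

/-- The three points lemma. -/
theorem isClosed_of_isClosed_image [NoetherianSpace G] [QuasiSober G]
    (a : G → X) (b : G → W) (ha : Continuous a) (hb : Continuous b)
    (hac : IsClosedMap a) (hbc : IsClosedMap b)
    (hG : D1 G) (hX : D1 X) (hW : D1 W) 
    (F4 : ∀ g, IsClosed ({a g} : Set X) → IsClosed ({b g} : Set W) → IsClosed ({g} : Set G))
    (ca : ∀ x, IsPreconnected (a ⁻¹' {x}))
    (cb : ∀ w, IsClosed ({w} : Set W) → IsPreconnected (b ⁻¹' {w}))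
    (two : ∀ x, IsClosed ({x} : Set X) → {ξ : X | Maxl ξ ∧ ξ ⤳ x}.encard ≤ 2)
    (marks : ∀ ε : W, Maxl ε → ∃ γ : Fin 3 → G, (∀ i, ε ⤳ b (γ i)) ∧
      (∀ i, IsClosed ({γ i} : Set G)) ∧ Function.Injective (b ∘ γ) ∧ Function.Injective (a ∘ γ) ∧
      ∀ i, {ξ : X | Maxl ξ ∧ ξ ⤳ a (γ i)}.encard ≤ 1) :
    ∀ g, IsClosed ({a g} : Set X) → IsClosed ({g} : Set G) := by
  classical
  intro f hf
  by_contra hfn
  have hbf : ¬ IsClosed ({b f} : Set W) := fun h => hfn (F4 f hf h)
  have hε : Maxl (b f) := maxl_of_not_isClosed hW hbf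
  obtain ⟨γ, hγs, hγc, hγb, hγa, hγ1⟩ := marks (b f) hε
  set x := a f with hx
  -- the points of the component over the marks
  have hex : ∀ i, ∃ e : G, f ⤳ e ∧ b e = b (γ i) := by
    intro i
    have h1 : IsClosed (b '' closure {f}) := hbc _ isClosed_closure
    have h2 : closure {b f} ⊆ b '' closure {f} :=
      h1.closure_subset_iff.mpr (by rintro _ rfl; exact ⟨f, subset_closure rfl, rfl⟩)
    obtain ⟨e, he, hbe⟩ := h2 (specializes_iff_mem_closure.mp (hγs i))
    exact ⟨e, specializes_iff_mem_closure.mpr he, hbe⟩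
  choose e hfe hbe using hex
  have hae : ∀ i, a (e i) = x := by
    intro i
    have h1 : a f ⤳ a (e i) := (hfe i).map ha
    have := specializes_iff_mem_closure.mp h1
    rw [← hx, hf.closure_eq] at this
    exact this
  have hwc : ∀ i, IsClosed ({b (γ i)} : Set W) := by
    intro i
    have := hbc _ (hγc i)
    rwa [Set.image_singleton] at this
  have hec : ∀ i, IsClosed ({e i} : Set G) := by
    intro i
    apply F4
    · rw [hae i]; exact hf
    · rw [hbe i]; exact hwc i
  -- for every mark not over x there is a component through x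
  have key : ∀ i, a (γ i) ≠ x → ∃ ξ : G, b ξ = b (γ i) ∧ ξ ≠ e i ∧ ξ ⤳ e i := by
    intro i hi
    obtain ⟨ξ, hξ, hne, hsp⟩ := exists_specializes (T := b ⁻¹' {b (γ i)}) ((hwc i).preimage hb)
      (cb _ (hwc i)) (e := e i) (g := γ i) (hbe i) rfl (by
        intro h
        apply hi
        rw [h, hae i]) (hec i)
    exact ⟨ξ, hξ, hne, hsp⟩
  have hnc : ∀ i (ξ : G), b ξ = b (γ i) → ξ ≠ e i → ξ ⤳ e i → ¬ IsClosed ({a ξ} : Set X) := by
    intro i ξ hbξ hne hsp hcl
    have h1 : IsClosed ({ξ} : Set G) := F4 ξ hcl (by rw [hbξ]; exact hwc i)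
    have := specializes_iff_mem_closure.mp hsp
    rw [h1.closure_eq] at this
    exact hne this.symm
  have hfib : ∀ α : X, ¬ IsClosed ({α} : Set X) → (a ⁻¹' {α}).Subsingleton := by
    intro α hα
    apply subsingleton_of_maxl _ (ca α)
    intro g hg
    apply maxl_of_not_isClosed hG
    intro hgc
    have := hac _ hgc
    rw [Set.image_singleton, show a g = α from hg] at this
    exact hα this
  have hinj : ∀ i j (ξ ξ' : G), b ξ = b (γ i) → ξ ≠ e i → ξ ⤳ e i → b ξ' = b (γ j) →
      a ξ = a ξ' → i = j := by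
    intro i j ξ ξ' h1 h2 h3 h4 h5
    have h6 : ξ = ξ' := hfib (a ξ) (hnc i ξ h1 h2 h3) rfl h5.symm
    apply hγb
    show b (γ i) = b (γ j)
    rw [← h1, ← h4, h6]
  have hmem : ∀ i (ξ : G), b ξ = b (γ i) → ξ ≠ e i → ξ ⤳ e i →
      a ξ ∈ {ξ : X | Maxl ξ ∧ ξ ⤳ x} := by
    intro i ξ h1 h2 h3
    refine ⟨maxl_of_not_isClosed hX (hnc i ξ h1 h2 h3), ?_⟩
    have := h3.map ha
    rwa [hae i] at this
  by_cases hall : ∀ i, a (γ i) ≠ x
  · choose ξ hξ1 hξ2 hξ3 using fun i => key i (hall i)
    have hinj' : Function.Injective (fun i => a (ξ i)) := fun i j hij =>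
      hinj i j (ξ i) (ξ j) (hξ1 i) (hξ2 i) (hξ3 i) (hξ1 j) hij
    have h3 : (3 : ℕ∞) ≤ {ξ : X | Maxl ξ ∧ ξ ⤳ x}.encard := by
      calc (3 : ℕ∞) = (Set.univ : Set (Fin 3)).encard := by
            rw [Set.encard_univ]; simp
        _ = (Set.range (fun i => a (ξ i))).encard := by
            rw [← Set.image_univ, hinj'.encard_image]
        _ ≤ _ := Set.encard_le_encard (by
            rintro _ ⟨i, rfl⟩
            exact hmem i (ξ i) (hξ1 i) (hξ2 i) (hξ3 i))
    have := h3.trans (two x hf)
    exact absurd this (by norm_num)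
  · push Not at hall
    obtain ⟨j, hj⟩ := hall
    have hother : ∃ k l : Fin 3, k ≠ l ∧ k ≠ j ∧ l ≠ j := by
      fin_cases j
      · exact ⟨1, 2, by decide, by decide, by decide⟩
      · exact ⟨0, 2, by decide, by decide, by decide⟩
      · exact ⟨0, 1, by decide, by decide, by decide⟩
    obtain ⟨k, l, hkl, hkj, hlj⟩ := hother
    have hk : a (γ k) ≠ x := fun h => hkj (hγa (show a (γ k) = a (γ j) by rw [h, hj]))
    have hl : a (γ l) ≠ x := fun h => hlj (hγa (show a (γ l) = a (γ j) by rw [h, hj]))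
    obtain ⟨ξ, h1, h2, h3⟩ := key k hk
    obtain ⟨ξ', h1', h2', h3'⟩ := key l hl
    have hne : a ξ ≠ a ξ' := fun h => hkl (hinj k l ξ ξ' h1 h2 h3 h1' h)
    have h4 := hγ1 j
    rw [hj] at h4
    rw [Set.encard_le_one_iff] at h4
    exact hne (h4 _ _ (hmem k ξ h1 h2 h3) (hmem l ξ' h1' h2' h3'))

end K122.ThreeTopo
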